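import Groth.Agent.RelDiv.Split
import Groth.Agent.SymCmp.FlatQuot

/-!
# Degrees of composites and products
-/

set_option autoImplicit false

universe u

open CategoryTheory CategoryTheory.Limits AlgebraicGeometry TensorProduct

namespace Groth.Agent.RelDiv

theorem finrank_comp_algebra (K S T : Type u) [Field K] [CommRing S] [CommRing T] [Algebra K S] [Algebra K T]
    [Algebra S T] [IsScalarTower K S T] [Module.Finite K S] [Module.Finite S T] [Module.Flat S T] (a : ℕ)
    (h : ∀ p : PrimeSpectrum S, Module.rankAtStalk (R := S) T p = a) :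
    Module.finrank K T = Module.finrank K S * a := by
  rcases subsingleton_or_nontrivial S with hS | hS
  · haveI := Module.subsingleton S T
    simp [Module.finrank_zero_of_subsingleton]
  haveI : IsArtinianRing S := IsArtinianRing.of_finite K S
  have hrk : ∀ P : MaximalSpectrum S, Module.finrank (S ⧸ P.1) ((S ⧸ P.1) ⊗[S] T) = a := fun P => by
    letI : Field (S ⧸ P.1) := Ideal.Quotient.field _
    let z : PrimeSpectrum (S ⧸ P.1) := ⟨⊥, Ideal.bot_prime⟩
    have := Module.rankAtStalk_baseChange (R := S) (S := S ⧸ P.1) (M := T) z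
    rw [Module.rankAtStalk_eq_finrank_of_free, h] at this
    exact this
  obtain ⟨b⟩ := Module.nonempty_basis_of_flat_of_finrank_eq S T a hrk
  haveI : Module.Free S T := .of_basis b
  rw [← Module.finrank_mul_finrank K S T, Module.finrank_eq_card_basis b, Fintype.card_fin]

/-- Degrees multiply. -/
theorem isFinLocFreeOfDeg_comp {X Y Z : Scheme.{u}} {f : X ⟶ Y} {g : Y ⟶ Z} {a b : ℕ}
    (hf : Mor2.IsFinLocFreeOfDeg a f) (hg : Mor2.IsFinLocFreeOfDeg b g) :
    Mor2.IsFinLocFreeOfDeg (a * b) (f ≫ g) := by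
  obtain ⟨⟨f1, f2, f3⟩, f4⟩ := hf
  obtain ⟨⟨g1, g2, g3⟩, g4⟩ := hg
  haveI := f1; haveI := f2; haveI := f3; haveI := g1; haveI := g2; haveI := g3
  refine ⟨⟨inferInstance, inferInstance, inferInstance⟩, fun z => ?_⟩
  let i := Z.fromSpecResidueField z
  let g' := pullback.snd g i
  let f' := pullback.snd f (pullback.fst g i)
  have hsq : IsPullback (pullback.fst f (pullback.fst g i)) (f' ≫ g') (f ≫ g) i :=
    (IsPullback.of_hasPullback f (pullback.fst g i)).paste_vert (IsPullback.of_hasPullback g i)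
  have hU : IsAffineOpen (⊤ : (Spec (Z.residueField z)).Opens) := isAffineOpen_top _
  let p := hU.primeIdealOf ⟨IsLocalRing.closedPoint (Z.residueField z), trivial⟩
  have hy : i (hU.fromSpec p) = z := Z.fromSpecResidueField_apply z _
  rw [← hy, ← Scheme.Hom.finrank_of_isPullback _ _ _ _ hsq, finrank_fromSpec_eq _ hU p]
  have hg4 : g'.finrank (hU.fromSpec p) = b := by
    rw [Scheme.Hom.finrank_pullback_snd, g4]
  rw [finrank_fromSpec_eq _ hU p] at hg4
  let V := g' ⁻¹ᵁ (⊤ : (Spec (Z.residueField z)).Opens)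
  have hV : IsAffineOpen V := hU.preimage g'
  let K := Γ(Spec (Z.residueField z), ⊤)
  letI : Field K := ((Scheme.ΓSpecIso (Z.residueField z)).commRingCatIsoToRingEquiv.toMulEquiv.isField
    (Field.toIsField (Z.residueField z))).toField
  letI : Algebra K Γ(pullback g i, V) := (g'.app ⊤).hom.toAlgebra
  letI : Algebra Γ(pullback g i, V) Γ(pullback f (pullback.fst g i), f' ⁻¹ᵁ V) := (f'.app V).hom.toAlgebra
  letI : Algebra K Γ(pullback f (pullback.fst g i), f' ⁻¹ᵁ V) := ((f' ≫ g').app ⊤).hom.toAlgebra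
  haveI : IsScalarTower K Γ(pullback g i, V) Γ(pullback f (pullback.fst g i), f' ⁻¹ᵁ V) :=
    IsScalarTower.of_algebraMap_eq' rfl
  haveI : Module.Finite K Γ(pullback g i, V) := g'.finite_app _ hU
  haveI : Module.Finite Γ(pullback g i, V) Γ(pullback f (pullback.fst g i), f' ⁻¹ᵁ V) := f'.finite_app _ hV
  haveI : Module.Flat Γ(pullback g i, V) Γ(pullback f (pullback.fst g i), f' ⁻¹ᵁ V) := by
    have h := f'.flat_appLE hV (hV.preimage f') (e := le_rfl)
    rw [← Scheme.Hom.app_eq_appLE] at h
    exact h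
  haveI : Module.Finite K Γ(pullback f (pullback.fst g i), f' ⁻¹ᵁ V) :=
    Module.Finite.trans Γ(pullback g i, V) _
  have h1 := finrank_comp_algebra K Γ(pullback g i, V) Γ(pullback f (pullback.fst g i), f' ⁻¹ᵁ V) a fun q => by
    rw [← finrank_fromSpec_eq f' hV q, Scheme.Hom.finrank_pullback_snd, f4]
  rw [Module.rankAtStalk_eq_finrank_of_free] at hg4
  refine (congrFun (Module.rankAtStalk_eq_finrank_of_free (R := K)
    (M := Γ(pullback f (pullback.fst g i), f' ⁻¹ᵁ V))) p).trans ?_
  show Module.finrank K Γ(pullback f (pullback.fst g i), f' ⁻¹ᵁ V) = a * b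
  rw [h1, show Module.finrank K Γ(pullback g i, V) = b from hg4, mul_comm]

end Groth.Agent.RelDiv
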