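import Groth.Agent.GrpdLib.FppfSourceDescentScheme
import Groth.Agent.Thick.FlatCancel
import Groth.Agent.GeomLoc.SmoothRegular
import Groth.Agent.FDesc.Algebra
import Groth.Agent.S9408
import Groth.Agent.IdealSh.Comap
import Mathlib.AlgebraicGeometry.Morphisms.Smooth
import Mathlib.AlgebraicGeometry.Morphisms.UniversallyOpen
import Mathlib.RingTheory.Etale.Descent
import Mathlib.RingTheory.Smooth.Fiber

/-!
# Smoothness descends along fppf covers of the source
-/

set_option autoImplicit false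

universe u

open CategoryTheory CategoryTheory.Limits AlgebraicGeometry TensorProduct
open Groth.Agent.FBase

namespace Groth.Agent.RelDiv

open Groth.Agent.IdealSh.Comap

theorem smooth_of_regular_of_algClosed (L : Type u) [Field L] [IsAlgClosed L] (B : Type u) [CommRing B] [Algebra L B]
    [Algebra.FinitePresentation L B] [IsRegularRing B] : Algebra.Smooth L B := by
  refine ⟨Algebra.smoothLocus_eq_univ_iff.mp (Set.eq_univ_iff_forall.mpr fun q => ?_), ‹_›⟩
  haveI : Algebra.IsGeometricallyReduced L q.asIdeal.ResidueField :=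
    TensorAlgClosed.isGeometricallyReduced_of_perfectField
  exact (S9442.result L B q.asIdeal).mpr (IsRegularRing.isRegularLocalRing_localization q.asIdeal)

theorem smooth_of_faithfullyFlat (A B C : Type u) [CommRing A] [CommRing B] [CommRing C] [Algebra A B] [Algebra A C]
    [Algebra B C] [IsScalarTower A B C] [Algebra.FinitePresentation A B] [Module.FaithfullyFlat B C]
    [Algebra.Smooth A C] : Algebra.Smooth A B := by
  haveI : Module.Flat A B := Groth.Agent.FDesc.Algebra.flat_of_comp_faithfullyFlat (A := A) (B := B) (C := C)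
  refine Algebra.Smooth.of_formallySmooth_fiber fun I _ => ?_
  let κ := I.ResidueField
  let L := AlgebraicClosure κ
  let BL := L ⊗[A] B
  letI : Algebra B BL := Algebra.TensorProduct.rightAlgebra
  let CL := BL ⊗[B] C
  haveI : Module.FaithfullyFlat BL CL := inferInstance
  haveI : Algebra.Smooth L (L ⊗[A] C) := inferInstance
  haveI : IsRegularRing (L ⊗[A] C) := by
    have h : CAlg.IsGeometricallyRegular L (L ⊗[A] C) := S9408.result L L (L ⊗[A] C) fun L' _ _ _ =>
      IsRegularRing.of_ringEquiv (R := L') (Algebra.TensorProduct.rid L L L').toRingEquiv.symm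
    haveI := h L inferInstance
    exact IsRegularRing.of_ringEquiv (Algebra.TensorProduct.lid L (L ⊗[A] C)).toRingEquiv
  haveI : IsRegularRing CL := by
    let e0 : BL ≃ₐ[B] B ⊗[A] L :=
      { __ := (Algebra.TensorProduct.comm A L B), commutes' := fun _ => rfl }
    exact IsRegularRing.of_ringEquiv (R := L ⊗[A] C)
      ((Algebra.TensorProduct.comm A L C).toRingEquiv.trans
        ((Algebra.TensorProduct.cancelBaseChange A B B C L).toRingEquiv.symm.trans
          ((Algebra.TensorProduct.congr (AlgEquiv.refl (R := B) (A₁ := C)) e0.symm).toRingEquiv.trans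
            (Algebra.TensorProduct.comm B C BL).toRingEquiv)))
  haveI : IsNoetherianRing BL := Algebra.FiniteType.isNoetherianRing L BL
  haveI : IsRegularRing BL := GeomFieldLib.isRegularRing_of_faithfullyFlat BL CL
  haveI : Algebra.Smooth L BL := smooth_of_regular_of_algClosed L BL
  haveI : Algebra.Smooth L (L ⊗[κ] (κ ⊗[A] B)) :=
    Algebra.Smooth.of_equiv (Algebra.TensorProduct.cancelBaseChange A κ L L B).symm
  exact (Algebra.Smooth.of_smooth_tensorProduct_of_faithfullyFlat (R := κ) (S := κ ⊗[A] B) L).formallySmooth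

theorem smooth_of_fppf_comp {X Y S : Scheme.{u}} (f : X ⟶ Y) (q : Y ⟶ S) [Surjective f] [Flat f]
    [LocallyOfFinitePresentation f] [Smooth (f ≫ q)] : Smooth q := by
  haveI : LocallyOfFinitePresentation q := GrpdLib.FppfSourceDescent.locallyOfFinitePresentation_of_comp_fppf f q
  haveI : UniversallyOpen f := UniversallyOpen.of_flat f
  refine (HasRingHomProperty.iff_exists_appLE (P := @Smooth)
    (RingHom.Smooth.stableUnderComposition.stableUnderCompositionWithLocalizationAway
      RingHom.Smooth.holdsForLocalizationAway).left).mpr fun y => ?_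
  obtain ⟨U, hU, -⟩ := exists_affine_le (q y) ⊤ trivial
  obtain ⟨V, hyV, hVU⟩ := exists_affine_le y (q ⁻¹ᵁ U.1) hU
  obtain ⟨x, rfl⟩ := f.surjective y
  obtain ⟨W, hxW, hWV⟩ := exists_affine_le x (f ⁻¹ᵁ V.1) hyV
  let O : Y.Opens := ⟨f '' (W.1 : Set X), f.isOpenMap _ W.1.2⟩
  obtain ⟨g, hgO, hxg⟩ := V.2.exists_basicOpen_le (V := O) ⟨f x, x, hxW, rfl⟩ hyV
  let V' : Y.affineOpens := Y.affineBasicOpen g
  let W' : X.affineOpens := ⟨X.basicOpen (f.appLE V.1 W.1 hWV g), W.2.basicOpen _⟩
  have hW' : W'.1 = f ⁻¹ᵁ V'.1 ⊓ W.1 := (Scheme.basicOpen_appLE _ _ _ _ _).trans (inf_comm _ _)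
  have e2 : W'.1 ≤ f ⁻¹ᵁ V'.1 := hW'.le.trans inf_le_left
  have e1 : V'.1 ≤ q ⁻¹ᵁ U.1 := (Y.basicOpen_le g).trans hVU
  refine ⟨U, V', hxg, e1, ?_⟩
  algebraize [(q.appLE U.1 V'.1 e1).hom, (f.appLE V'.1 W'.1 e2).hom,
    ((q.appLE U.1 V'.1 e1 ≫ f.appLE V'.1 W'.1 e2)).hom]
  haveI : IsScalarTower Γ(S, U.1) Γ(Y, V'.1) Γ(X, W'.1) := IsScalarTower.of_algebraMap_eq' rfl
  haveI : Algebra.FinitePresentation Γ(S, U.1) Γ(Y, V'.1) :=
    HasRingHomProperty.appLE (P := @LocallyOfFinitePresentation) q inferInstance U V' e1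
  haveI : Module.Flat Γ(Y, V'.1) Γ(X, W'.1) := f.flat_appLE V'.2 W'.2 (e := e2)
  haveI : Algebra.Smooth Γ(S, U.1) Γ(X, W'.1) := by
    have h := HasRingHomProperty.appLE (P := @Smooth) (f ≫ q) inferInstance U W'
      (e2.trans (f.preimage_mono e1))
    rw [← Scheme.Hom.appLE_comp_appLE (e₁ := e1) (e₂ := e2)] at h
    exact h
  haveI : Module.FaithfullyFlat Γ(Y, V'.1) Γ(X, W'.1) := by
    refine Module.FaithfullyFlat.of_comap_surjective fun P => ?_
    obtain ⟨w, hw, hwP⟩ := hgO (show V'.2.fromSpec P ∈ V'.1 from by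
      have : V'.2.fromSpec P ∈ Set.range V'.2.fromSpec := ⟨P, rfl⟩
      rwa [V'.2.range_fromSpec] at this)
    have hw' : w ∈ W'.1 := by
      rw [hW']
      refine ⟨?_, hw⟩
      show f w ∈ V'.1
      rw [hwP]
      have : V'.2.fromSpec P ∈ Set.range V'.2.fromSpec := ⟨P, rfl⟩
      rwa [V'.2.range_fromSpec] at this
    refine ⟨W'.2.primeIdealOf ⟨w, hw'⟩, V'.2.fromSpec.isOpenEmbedding.injective ?_⟩
    have h1 := W'.2.fromSpec_primeIdealOf ⟨w, hw'⟩
    refine (congrArg (fun m : Spec Γ(X, W'.1) ⟶ Y => m (W'.2.primeIdealOf ⟨w, hw'⟩))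
      (IsAffineOpen.SpecMap_appLE_fromSpec f V'.2 W'.2 e2)).trans ?_
    rw [Scheme.Hom.comp_apply, h1]
    exact hwP
  exact RingHom.smooth_algebraMap.mpr (smooth_of_faithfullyFlat Γ(S, U.1) Γ(Y, V'.1) Γ(X, W'.1))

end Groth.Agent.RelDiv
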