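import Groth.Agent.Omega.RankDimGen
import Groth.Agent.VarDim.Curve
import Mathlib.AlgebraicGeometry.Morphisms.Smooth
import Mathlib.AlgebraicGeometry.FunctionField

/-!
# Smooth curves are smooth of relative dimension one
-/

set_option autoImplicit false

noncomputable section

universe u

open CategoryTheory AlgebraicGeometry TopologicalSpace

namespace Groth.Agent.RelDiv.CurveSmooth

variable {k : Type u} [Field k] {X : Scheme.{u}} [X.Over (Spec (CommRingCat.of k))]

/-- A smooth integral curve over a field is smooth of relative dimension one. -/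
theorem smoothOfRelativeDimension_one [Smooth (X ↘ Spec (CommRingCat.of k))] [IsIntegral X]
    (hdim : topologicalKrullDim X = 1) : SmoothOfRelativeDimension 1 (X ↘ Spec (CommRingCat.of k)) := by
  let f := X ↘ Spec (CommRingCat.of k)
  refine ⟨fun x => ?_⟩
  obtain ⟨U, hU, V, hV, hx, e, hs⟩ := Smooth.exists_isStandardSmooth f x
  obtain rfl : U = ⊤ := eq_top_iff.mpr fun y _ => by
    have : y = f x := Subsingleton.elim (α := PrimeSpectrum k) _ _
    rw [this]; exact e hx
  refine ⟨⊤, hU, V, hV, hx, e, ?_⟩
  haveI : Nonempty V := ⟨⟨x, hx⟩⟩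
  let φ : k →+* Γ(X, V) := (f.appLE ⊤ V e).hom.comp (Scheme.ΓSpecIso (CommRingCat.of k)).inv.hom
  have hiso : ∀ {P : ∀ {R S : Type u} [CommRing R] [CommRing S], (R →+* S) → Prop},
      RingHom.RespectsIso P → (P (f.appLE ⊤ V e).hom ↔ P φ) := fun hP =>
    ⟨fun h => hP.2 _ (Scheme.ΓSpecIso (CommRingCat.of k)).symm.commRingCatIsoToRingEquiv h, fun h => by
      have := hP.2 φ (Scheme.ΓSpecIso (CommRingCat.of k)).commRingCatIsoToRingEquiv h
      convert this using 1
      ext a
      show _ = (f.appLE ⊤ V e) ((Scheme.ΓSpecIso (CommRingCat.of k)).inv ((Scheme.ΓSpecIso (CommRingCat.of k)).hom a))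
      rw [Iso.hom_inv_id_apply]⟩
  refine (hiso (P := RingHom.IsStandardSmoothOfRelativeDimension 1)
    RingHom.isStandardSmoothOfRelativeDimension_respectsIso).mpr ?_
  have hs' := (hiso (P := RingHom.IsStandardSmooth) RingHom.isStandardSmooth_respectsIso).mp hs
  letI : Algebra k Γ(X, V) := φ.toAlgebra
  haveI : Algebra.IsStandardSmooth k Γ(X, V) := hs'
  letI : Algebra k X.functionField := ((X.germToFunctionField V).hom.comp φ).toAlgebra
  haveI : IsScalarTower k Γ(X, V) X.functionField := IsScalarTower.of_algebraMap_eq fun _ => rfl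
  haveI := functionField_isFractionRing_of_isAffineOpen X V hV
  haveI : Algebra.FormallyEtale Γ(X, V) X.functionField :=
    Algebra.FormallyEtale.of_isLocalization (nonZeroDivisors Γ(X, V))
  haveI : Algebra.EssFiniteType Γ(X, V) X.functionField :=
    Algebra.EssFiniteType.of_isLocalization _ (nonZeroDivisors Γ(X, V))
  haveI : Algebra.EssFiniteType k X.functionField := Algebra.EssFiniteType.comp k Γ(X, V) X.functionField
  haveI : Algebra.FormallySmooth k X.functionField := Algebra.FormallySmooth.comp k Γ(X, V) X.functionField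
  have htr : Algebra.trdeg k X.functionField = (1 : ℕ) := by
    letI := Curv2.resAlgebra k X (genericPoint X)
    have h1 := VarDim.trdeg_residueField k X (genericPoint X)
    rw [VarDim.dimPt_genericPoint_of_curve k hdim] at h1
    rw [← h1]
    have hb : Function.Bijective (X.residue (genericPoint X)) :=
      ⟨RingHom.injective (R := X.functionField) (X.residue (genericPoint X)).hom, X.residue_surjective _⟩
    let ee : X.functionField ≃ₐ[k] X.residueField (genericPoint X) :=
      AlgEquiv.ofRingEquiv (f := RingEquiv.ofBijective (X.residue (genericPoint X)).hom hb) fun c => by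
        show X.residue (genericPoint X) (X.germToFunctionField V ((f.appLE ⊤ V e) _)) =
          X.residue (genericPoint X) (X.presheaf.germ ⊤ (genericPoint X) trivial (Coh.toGlobal f c))
        congr 1
        simp only [Scheme.Hom.appLE, CommRingCat.comp_apply, Scheme.germToFunctionField, TopCat.Presheaf.germ_res_apply]
        rfl
    exact ee.trdeg_eq
  have h2 : Module.finrank Γ(X, V) Ω[Γ(X, V)⁄k] = 1 := by
    rw [← Module.finrank_baseChange (R := X.functionField),
      (KaehlerDifferential.isBaseChange_of_formallyEtale k Γ(X, V) X.functionField).equiv.finrank_eq]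
    exact Omega.RankDim.finrank_kaehler_eq_trdeg k X.functionField 1 htr
  show Algebra.IsStandardSmoothOfRelativeDimension 1 k Γ(X, V)
  rw [Algebra.IsStandardSmoothOfRelativeDimension.iff_of_isStandardSmooth, ← Module.finrank_eq_rank, h2]

end Groth.Agent.RelDiv.CurveSmooth

end
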