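import Groth.Agent.RelDiv.Diff

/-!
# Cancellation of relative divisors
-/

set_option autoImplicit false

universe u

open CategoryTheory CategoryTheory.Limits AlgebraicGeometry TopologicalSpace
open Groth.Agent.IdealSh.Comap

namespace Groth.Agent.RelDiv

variable {X S : Scheme.{u}}

theorem mul_left_cancel {I J K : X.IdealSheafData} (hI : BlowUp.IsEffCartierIdeal I) (h : I * J = I * K) : J = K := by
  refine ext_of_forall_exists _ _ fun x => ?_
  obtain ⟨U, hxU, a, ha, ea⟩ := hI x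
  refine ⟨U, hxU, ?_⟩
  have h' := congrArg (fun L : X.IdealSheafData => L.ideal U) h
  simp only [Scheme.IdealSheafData.ideal_mul, Pi.mul_apply, ea] at h'
  have key : ∀ {A B : Ideal Γ(X, U.1)}, Ideal.span {a} * A = Ideal.span {a} * B → A ≤ B := fun {A B} e t ht => by
    obtain ⟨s, hs, hst⟩ := Ideal.mem_span_singleton_mul.mp (e ▸ Ideal.mul_mem_mul (Ideal.mem_span_singleton_self a) ht)
    rwa [← sub_eq_zero.mp ((mem_nonZeroDivisors_iff_left.mp ha) (s - t) (by rw [mul_sub, hst, sub_self]))]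
  exact le_antisymm (key h') (key h'.symm)

theorem eq_top_of_finrank_zero {f : X ⟶ S} {I : X.IdealSheafData} (h : Mor2.IsFinLocFree (I.subschemeι ≫ f))
    (h0 : ∀ y, (I.subschemeι ≫ f).finrank y = 0) : I = ⊤ := by
  obtain ⟨h1, h2, h3⟩ := h
  haveI := h1; haveI := h2
  rw [← I.ker_subschemeι, Scheme.Hom.ker_eq_top_iff_isEmpty]
  exact ⟨fun x => by have := (I.subschemeι ≫ f).one_le_finrank_map x; rw [h0] at this; omega⟩

variable {f : X ⟶ S} [SmoothOfRelativeDimension 1 f]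

theorem cartier_of_div {I : X.IdealSheafData} (h : Mor2.IsFinLocFree (I.subschemeι ≫ f)) :
    BlowUp.IsEffCartierIdeal I := by
  obtain ⟨h1, h2, h3⟩ := h
  haveI := h1; haveI := h2; haveI := h3
  exact isEffCartierIdeal f I

theorem eq_of_le_of_deg {I J : X.IdealSheafData} {d : ℕ} (hle : J ≤ I)
    (h₁ : Mor2.IsFinLocFreeOfDeg d (I.subschemeι ≫ f)) (h₂ : Mor2.IsFinLocFreeOfDeg d (J.subschemeι ≫ f)) :
    J = I := by
  obtain ⟨K, hK, e, hd⟩ := exists_difference hle h₁.1 h₂.1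
  have : K = ⊤ := eq_top_of_finrank_zero hK fun y => by
    have := hd y
    rw [h₁.2, h₂.2] at this
    omega
  rw [e, this, mul_top']
where
  mul_top' {I : X.IdealSheafData} : I * ⊤ = I := by
    ext U : 2
    simp

theorem exists_step {I J : X.IdealSheafData} {a b : ℕ} (hle : J ≤ I)
    (h₁ : Mor2.IsFinLocFreeOfDeg a (I.subschemeι ≫ f)) (h₂ : Mor2.IsFinLocFreeOfDeg b (J.subschemeι ≫ f)) :
    ∃ K : X.IdealSheafData, Mor2.IsFinLocFreeOfDeg (b - a) (K.subschemeι ≫ f) ∧ J = I * K := by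
  obtain ⟨K, hK, e, hd⟩ := exists_difference hle h₁.1 h₂.1
  refine ⟨K, ⟨hK, fun y => ?_⟩, e⟩
  have := hd y
  rw [h₁.2, h₂.2] at this
  omega

end Groth.Agent.RelDiv
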