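import Groth.Agent.RelDiv.Local
import Groth.Agent.IdealSh.RelFlat
import Mathlib.AlgebraicGeometry.Morphisms.Smooth
import Mathlib.AlgebraicGeometry.Morphisms.QuasiFinite
import Mathlib.AlgebraicGeometry.Morphisms.FinitePresentation

/-!
# Relative divisors on a family of smooth curves
-/

set_option autoImplicit false

universe u

open CategoryTheory AlgebraicGeometry TopologicalSpace
open Groth.Agent.IdealSh.Comap

namespace Groth.Agent.RelDiv

variable {X S : Scheme.{u}}

theorem quot_of_subscheme {P : MorphismProperty Scheme.{u}}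
    {Q : ∀ {R T : Type u} [CommRing R] [CommRing T], (R →+* T) → Prop} [HasRingHomProperty P Q]
    (f : X ⟶ S) (I : X.IdealSheafData) (h : P (I.subschemeι ≫ f)) (U : S.affineOpens) (V : X.affineOpens)
    (e : V.1 ≤ f ⁻¹ᵁ U.1) : Q ((Ideal.Quotient.mk (I.ideal V)).comp (f.appLE U V e).hom) := by
  have h1 := HasRingHomProperty.appLE P (I.subschemeι ≫ f) h U ⟨_, V.2.preimage I.subschemeι⟩ (fun x hx => e hx)
  have h2 : (I.subschemeι ≫ f).appLE U.1 (I.subschemeι ⁻¹ᵁ V.1) (fun x hx => e hx) =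
      f.appLE U.1 V.1 e ≫ CommRingCat.ofHom (Ideal.Quotient.mk (I.ideal V)) ≫ (I.subschemeObjIso V).inv := by
    rw [← I.subschemeι_app V, Scheme.Hom.app_eq_appLE, Scheme.Hom.appLE_comp_appLE]
  rw [h2] at h1
  have h3 := (HasRingHomProperty.isLocal_ringHomProperty P (Q := Q)).respectsIso.1 _
    (I.subschemeObjIso V).commRingCatIsoToRingEquiv h1
  have h4 : (I.subschemeObjIso V).commRingCatIsoToRingEquiv.toRingHom.comp
      (f.appLE U.1 V.1 e ≫ CommRingCat.ofHom (Ideal.Quotient.mk (I.ideal V)) ≫ (I.subschemeObjIso V).inv).hom =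
      (Ideal.Quotient.mk (I.ideal V)).comp (f.appLE U.1 V.1 e).hom :=
    RingHom.ext fun a => ConcreteCategory.congr_hom (I.subschemeObjIso V).inv_hom_id
      (Ideal.Quotient.mk (I.ideal V) (f.appLE U.1 V.1 e a))
  exact (congrArg (fun φ => Q φ) h4).mp h3

theorem subscheme_of_forall {P : MorphismProperty Scheme.{u}}
    {Q : ∀ {R T : Type u} [CommRing R] [CommRing T], (R →+* T) → Prop} [HasRingHomProperty P Q]
    (hQ : RingHom.StableUnderCompositionWithLocalizationAwaySource Q) (f : X ⟶ S) (I : X.IdealSheafData)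
    (H : ∀ x ∈ I.support, ∃ (U : S.affineOpens) (V : X.affineOpens) (e : V.1 ≤ f ⁻¹ᵁ U.1),
      x ∈ V.1 ∧ Q ((Ideal.Quotient.mk (I.ideal V)).comp (f.appLE U V e).hom)) :
    P (I.subschemeι ≫ f) := by
  refine (HasRingHomProperty.iff_exists_appLE (P := P) hQ).mpr fun d => ?_
  obtain ⟨U, V, e, hx, h⟩ := H (I.subschemeι d) (by
    rw [← SetLike.mem_coe, ← Scheme.IdealSheafData.range_subschemeι]; exact ⟨d, rfl⟩)
  refine ⟨U, ⟨_, V.2.preimage I.subschemeι⟩, hx, fun x hx => e hx, ?_⟩
  have h2 : (I.subschemeι ≫ f).appLE U.1 (I.subschemeι ⁻¹ᵁ V.1) (fun x hx => e hx) =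
      f.appLE U.1 V.1 e ≫ CommRingCat.ofHom (Ideal.Quotient.mk (I.ideal V)) ≫ (I.subschemeObjIso V).inv := by
    rw [← I.subschemeι_app V, Scheme.Hom.app_eq_appLE, Scheme.Hom.appLE_comp_appLE]
  rw [h2]
  exact (HasRingHomProperty.isLocal_ringHomProperty P (Q := Q)).respectsIso.1 _
    (I.subschemeObjIso V).symm.commRingCatIsoToRingEquiv h

variable (f : X ⟶ S) [SmoothOfRelativeDimension 1 f] (I : X.IdealSheafData)

theorem exists_chart (x : X) (W : X.Opens) (hxW : x ∈ W) :
    ∃ (U : S.affineOpens) (V : X.affineOpens) (e : V.1 ≤ f ⁻¹ᵁ U.1), x ∈ V.1 ∧ V.1 ≤ W ∧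
      RingHom.IsStandardSmoothOfRelativeDimension 1 (f.appLE U V e).hom := by
  obtain ⟨U, hU, V, hV, hx, e, hf⟩ :=
    SmoothOfRelativeDimension.exists_isStandardSmoothOfRelativeDimension (n := 1) (f := f) x
  obtain ⟨r, hr, hxr⟩ := hV.exists_basicOpen_le (V := W) ⟨x, hxW⟩ hx
  refine ⟨⟨U, hU⟩, ⟨X.basicOpen r, hV.basicOpen r⟩, (X.basicOpen_le r).trans e, hxr, hr, ?_⟩
  rw [← f.appLE_map e (homOfLE (X.basicOpen_le r)).op]
  haveI : IsLocalization.Away r Γ(X, X.basicOpen r) := hV.isLocalization_basicOpen r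
  exact (RingHom.isStandardSmoothOfRelativeDimension_stableUnderCompositionWithLocalizationAway 1).right
    Γ(X, X.basicOpen r) r _ hf

/-- A flat quasi-finite subscheme of finite presentation of a relative curve is a relative divisor. -/
theorem isEffCartierIdeal [LocallyQuasiFinite (I.subschemeι ≫ f)] [Flat (I.subschemeι ≫ f)]
    [LocallyOfFinitePresentation (I.subschemeι ≫ f)] : BlowUp.IsEffCartierIdeal I := by
  intro x
  obtain ⟨U, V, e, hxV, -, hsm⟩ := exists_chart f x ⊤ trivial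
  algebraize [(f.appLE U.1 V.1 e).hom]
  haveI : Algebra.IsStandardSmoothOfRelativeDimension 1 Γ(S, U.1) Γ(X, V.1) := hsm
  haveI : Algebra.IsStandardSmooth Γ(S, U.1) Γ(X, V.1) :=
    Algebra.IsStandardSmoothOfRelativeDimension.isStandardSmooth 1
  let J := I.ideal V
  haveI : Module.Flat Γ(S, U.1) (Γ(X, V.1) ⧸ J) :=
    RingHom.flat_algebraMap_iff.mp (quot_of_subscheme (P := @Flat) f I inferInstance U V e)
  haveI : Algebra.QuasiFinite Γ(S, U.1) (Γ(X, V.1) ⧸ J) :=
    RingHom.quasiFinite_algebraMap.mp (quot_of_subscheme (P := @LocallyQuasiFinite) f I inferInstance U V e)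
  haveI : Algebra.FinitePresentation Γ(S, U.1) (Γ(X, V.1) ⧸ J) :=
    RingHom.finitePresentation_algebraMap.mp
      (quot_of_subscheme (P := @LocallyOfFinitePresentation) f I inferInstance U V e)
  have hfg : J.FG := by
    have := Algebra.FinitePresentation.ker_fG_of_surjective (Ideal.Quotient.mkₐ Γ(S, U.1) J)
      Ideal.Quotient.mk_surjective
    exact (Ideal.mk_ker (I := J)) ▸ this
  obtain ⟨g, hg, t, ht, hJ⟩ := exists_regular_equation Γ(S, U.1) J hfg (V.2.primeIdealOf ⟨x, hxV⟩).asIdeal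
  haveI : IsLocalization.Away g Γ(X, X.basicOpen g) := V.2.isLocalization_basicOpen g
  let ε := IsLocalization.algEquiv (Submonoid.powers g) (Localization.Away g) Γ(X, X.basicOpen g)
  have hxg : x ∈ X.basicOpen g := by
    rw [← V.2.fromSpec_image_basicOpen]
    exact ⟨V.2.primeIdealOf ⟨x, hxV⟩, hg, V.2.fromSpec_primeIdealOf _⟩
  refine ⟨X.affineBasicOpen g, hxg, ε t,
    (MulEquivClass.map_nonZeroDivisors ε).le ⟨t, ht, rfl⟩, ?_⟩
  rw [← I.map_ideal (U := X.affineBasicOpen g) (V := V) (X.basicOpen_le g)]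
  have := congrArg (Ideal.map ε.toRingEquiv.toRingHom) hJ
  rw [Ideal.map_span, Set.image_singleton, Ideal.map_map] at this
  exact (congrArg (fun φ => Ideal.map φ (I.ideal V)) (show (X.presheaf.map (homOfLE (X.basicOpen_le g)).op).hom =
    ε.toRingEquiv.toRingHom.comp (algebraMap Γ(X, V.1) (Localization.Away g)) from
      RingHom.ext fun a => (ε.commutes a).symm)).trans this

/-- A relative divisor is quasi-finite and of finite presentation. -/
theorem locallyQuasiFinite_and_lfp (hI : BlowUp.IsEffCartierIdeal I) [Flat (I.subschemeι ≫ f)] :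
    LocallyQuasiFinite (I.subschemeι ≫ f) ∧ LocallyOfFinitePresentation (I.subschemeι ≫ f) := by
  have key : ∀ x : X, ∃ (U : S.affineOpens) (V : X.affineOpens) (e : V.1 ≤ f ⁻¹ᵁ U.1), x ∈ V.1 ∧
      ((Ideal.Quotient.mk (I.ideal V)).comp (f.appLE U V e).hom).QuasiFinite ∧
      ((Ideal.Quotient.mk (I.ideal V)).comp (f.appLE U V e).hom).FinitePresentation := by
    intro x
    obtain ⟨W, hxW, t₀, ht₀, hW⟩ := hI x
    obtain ⟨U, V, e, hxV, hVW, hsm⟩ := exists_chart f x W.1 hxW
    refine ⟨U, V, e, hxV, ?_⟩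
    algebraize [(f.appLE U.1 V.1 e).hom]
    haveI : Algebra.IsStandardSmoothOfRelativeDimension 1 Γ(S, U.1) Γ(X, V.1) := hsm
    haveI : Algebra.IsStandardSmooth Γ(S, U.1) Γ(X, V.1) :=
      Algebra.IsStandardSmoothOfRelativeDimension.isStandardSmooth 1
    rw [IdealSh.EffCartier.restrict_eq hVW hW]
    have hf := quot_of_subscheme (P := @Flat) f I inferInstance U V e
    rw [IdealSh.EffCartier.restrict_eq hVW hW] at hf
    haveI : Module.Flat Γ(S, U.1) (Γ(X, V.1) ⧸ Ideal.span {X.presheaf.map (homOfLE hVW).op t₀}) :=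
      RingHom.flat_algebraMap_iff.mp hf
    exact ⟨RingHom.quasiFinite_algebraMap.mpr (quasiFinite_of_regular Γ(S, U.1) _
        (IdealSh.EffCartier.map_res_mem_nonZeroDivisors hVW ht₀)),
      RingHom.finitePresentation_algebraMap.mpr (Algebra.FinitePresentation.quotient ⟨{_}, by simp; rfl⟩)⟩
  constructor
  · refine subscheme_of_forall (P := @LocallyQuasiFinite)
      (RingHom.QuasiFinite.stableUnderComposition.stableUnderCompositionWithLocalizationAway
        RingHom.QuasiFinite.holdsForLocalizationAway).left f I fun x _ => ?_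
    obtain ⟨U, V, e, hx, h, -⟩ := key x
    exact ⟨U, V, e, hx, h⟩
  · refine subscheme_of_forall (P := @LocallyOfFinitePresentation)
      (RingHom.finitePresentation_stableUnderComposition.stableUnderCompositionWithLocalizationAway
        RingHom.finitePresentation_holdsForLocalizationAway).left f I fun x _ => ?_
    obtain ⟨U, V, e, hx, -, h⟩ := key x
    exact ⟨U, V, e, hx, h⟩

end Groth.Agent.RelDiv
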