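import Groth.Agent.VarDim.Curve
import Groth.Agent.CurveCoh.Integral
import Groth.Prelude.Def_SymProd
import Groth.Prelude.Def_Curve
import Mathlib.AlgebraicGeometry.Birational.RationalMap
import Mathlib.AlgebraicGeometry.Morphisms.Immersion
import Mathlib.AlgebraicGeometry.ZariskisMainTheorem
import Mathlib.Algebra.GCDMonoid.IntegrallyClosed

/-!
# Finite subsets of a smooth proper curve lie in affine opens
-/

set_option autoImplicit false

noncomputable section

universe u

open CategoryTheory CategoryTheory.Limits AlgebraicGeometry TopologicalSpace Polynomial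

namespace Groth.Agent.RelDiv.CurveAF

variable (k : Type u) [Field k] (X : Scheme.{u}) [X.Over (Spec (CommRingCat.of k))]

/-- The stalk inclusion into the function field. -/
abbrev toK [IsIntegral X] (x : X) : X.presheaf.stalk x ⟶ X.functionField :=
  X.presheaf.stalkSpecializes ((genericPoint_specializes x))

/-- The structure map of the affine line. -/
abbrev lineHom : Spec (CommRingCat.of k[X]) ⟶ Spec (CommRingCat.of k) := Spec.map (CommRingCat.ofHom C)

instance : LocallyOfFiniteType (lineHom k) := by
  rw [HasRingHomProperty.Spec_iff (P := @LocallyOfFiniteType)]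
  exact RingHom.finiteType_algebraMap.mpr (inferInstance : Algebra.FiniteType k k[X])

/-- The point of the affine line with coordinate `a`. -/
abbrev linePt (x : X) (a : X.presheaf.stalk x) : Spec (X.presheaf.stalk x) ⟶ Spec (CommRingCat.of k[X]) :=
  Spec.map (CommRingCat.ofHom (Polynomial.eval₂RingHom (Curv2.stalkMap k X x) a))

theorem SpecMap_stalkMap (x : X) :
    Spec.map (CommRingCat.ofHom (Curv2.stalkMap k X x)) = X.fromSpecStalk x ≫ (X ↘ Spec (CommRingCat.of k)) := by
  refine ext_of_isAffine ?_
  rw [Scheme.Hom.comp_appTop, Scheme.fromSpecStalk_appTop]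
  rw [← cancel_epi (Scheme.ΓSpecIso (CommRingCat.of k)).inv, ← Scheme.ΓSpecIso_inv_naturality]
  simp only [← Category.assoc]
  rfl

theorem linePt_comp (x : X) (a : X.presheaf.stalk x) :
    linePt k X x a ≫ lineHom k = X.fromSpecStalk x ≫ (X ↘ Spec (CommRingCat.of k)) := by
  rw [← Spec.map_comp, ← SpecMap_stalkMap]
  congr 1
  ext c
  exact Polynomial.eval₂_C _ _

theorem toK_stalkMap [IsIntegral X] (x : X) (c : k) :
    toK X x (Curv2.stalkMap k X x c) = Curv2.stalkMap k X (genericPoint X) c :=
  TopCat.Presheaf.germ_stalkSpecializes_apply _ _ _ _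

variable {k X}
variable [IsProper (X ↘ Spec (CommRingCat.of k))] [Smooth (X ↘ Spec (CommRingCat.of k))] [IsIntegral X]
  (hdim : topologicalKrullDim X = 1)
include hdim

theorem exists_transcendental :
    ∃ t : X.functionField, ∀ p : k[X], p ≠ 0 → p.eval₂ (Curv2.stalkMap k X (genericPoint X)) t ≠ 0 := by
  letI : Algebra k X.functionField := (Curv2.stalkMap k X (genericPoint X)).toAlgebra
  letI := Curv2.resAlgebra k X (genericPoint X)
  by_contra hne
  push Not at hne
  haveI : Algebra.IsAlgebraic k X.functionField := ⟨fun t => by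
    obtain ⟨p, hp, hpt⟩ := hne t
    exact ⟨p, hp, by rwa [Polynomial.aeval_def]⟩⟩
  let r : X.functionField →ₐ[k] X.residueField (genericPoint X) :=
    { (X.residue (genericPoint X)).hom with commutes' := fun c => rfl }
  haveI : Algebra.IsAlgebraic k (X.residueField (genericPoint X)) := ⟨fun y => by
    obtain ⟨t, rfl⟩ := X.residue_surjective (genericPoint X) y
    exact (Algebra.IsAlgebraic.isAlgebraic t).algHom r⟩
  have h1 := VarDim.dimPt_genericPoint_of_curve k hdim
  rw [VarDim.dimPt, trdeg_eq_zero] at h1
  simp at h1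

omit [IsProper (X ↘ Spec (CommRingCat.of k))] in
theorem mem_range_of_integral {x : X} {t : X.functionField} {h : k[X]} (hm : h.Monic) (hd : 0 < h.natDegree)
    (ht : h.eval₂ (Curv2.stalkMap k X (genericPoint X)) t ∈ Set.range (toK X x)) : t ∈ Set.range (toK X x) := by
  haveI := CurveCoh.valuationRing_stalk k X hdim x
  obtain ⟨c, hc⟩ := ht
  classical
  haveI : IsBezout (X.presheaf.stalk x) := inferInstance
  letI := IsBezout.toGCDDomain (X.presheaf.stalk x)
  haveI : IsIntegrallyClosed (X.presheaf.stalk x) := GCDMonoid.toIsIntegrallyClosed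
  refine (IsIntegrallyClosed.isIntegral_iff (R := X.presheaf.stalk x) (K := X.functionField)).mp
    ⟨h.map (Curv2.stalkMap k X x) - C c, (hm.map _).sub_of_left ?_, ?_⟩
  · refine lt_of_le_of_lt degree_C_le ?_
    rw [hm.degree_map, degree_eq_natDegree hm.ne_zero]
    exact_mod_cast hd
  · show Polynomial.eval₂ (toK X x).hom t (h.map (Curv2.stalkMap k X x) - C c) = 0
    rw [eval₂_sub, eval₂_C, eval₂_map, show (toK X x).hom.comp (Curv2.stalkMap k X x) =
      Curv2.stalkMap k X (genericPoint X) from RingHom.ext (toK_stalkMap k X x)]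
    exact sub_eq_zero.mpr hc.symm

/-- A nonconstant rational function regular at finitely many given points. -/
theorem exists_function (s : Finset X) :
    ∃ f : X.functionField, (∀ p : k[X], p ≠ 0 → p.eval₂ (Curv2.stalkMap k X (genericPoint X)) f ≠ 0) ∧
      ∀ x ∈ s, f ∈ Set.range (toK X x) := by
  classical
  obtain ⟨t, ht⟩ := exists_transcendental (k := k) hdim
  have hm : ∀ x : X, ∃ m : k[X], m.Monic ∧ (x ≠ genericPoint X →
      ∀ a, toK X x a = t → Polynomial.eval₂ (Curv2.resMap k X x) (X.residue x a) m = 0) := by
    intro x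
    by_cases hx : x = genericPoint X
    · exact ⟨1, monic_one, fun h => absurd hx h⟩
    by_cases ha : ∃ a, toK X x a = t
    · obtain ⟨a, ha⟩ := ha
      letI := Curv2.resAlgebra k X x
      have hxc := VarDim.isClosed_singleton_of_ne_genericPoint k hdim hx
      haveI : Algebra.IsAlgebraic k (X.residueField x) := by
        rw [← trdeg_eq_zero_iff, VarDim.trdeg_residueField k X x]
        have h0 := VarDim.height_eq_dimPt k x
        rw [Order.height_eq_zero.mpr (VarDim.isMin_of_ne_genericPoint k hdim hx)] at h0
        simpa using h0.symm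
      refine ⟨minpoly k (X.residue x a), minpoly.monic (Algebra.IsIntegral.isIntegral _), fun _ b hb => ?_⟩
      have : b = a := IsFractionRing.injective (X.presheaf.stalk x) X.functionField (hb.trans ha.symm)
      rw [this]
      exact minpoly.aeval k (X.residue x a)
    · exact ⟨1, monic_one, fun _ a h => absurd ⟨a, h⟩ ha⟩
  choose m hm1 hm2 using hm
  let M : k[X] := ∏ x ∈ s, m x
  have hM : M.Monic := monic_prod_of_monic _ _ fun x _ => hm1 x
  let h : k[X] := Polynomial.X * M + 1
  have hXM : (Polynomial.X * M).Monic := monic_X.mul hM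
  have hh : h.Monic := hXM.add_of_left (by
    rw [degree_one, degree_mul, degree_X, degree_eq_natDegree hM.ne_zero, ← Nat.cast_one, ← Nat.cast_add]
    exact_mod_cast Nat.lt_add_right _ Nat.zero_lt_one)
  have hd : 1 ≤ h.natDegree := by
    rw [show h = Polynomial.X * M + C 1 by simp [h], natDegree_add_C, natDegree_mul X_ne_zero hM.ne_zero,
      natDegree_X]
    omega
  set b := h.eval₂ (Curv2.stalkMap k X (genericPoint X)) t with hb
  have hb0 : b ≠ 0 := ht h hh.ne_zero
  refine ⟨b⁻¹, fun p hp hpb => ?_, fun x hx => ?_⟩
  · letI : Algebra k X.functionField := (Curv2.stalkMap k X (genericPoint X)).toAlgebra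
    have htr : Transcendental k t := fun ⟨q, hq, hqt⟩ => ht q hq hqt
    have hbtr : Transcendental k b := by
      have := (Transcendental.aeval (f := h) htr (by omega))
      rw [Polynomial.aeval_def] at this
      exact this (by rw [hh.leadingCoeff]; exact one_mem _)
    exact hbtr ((IsAlgebraic.inv_iff).mp ⟨p, hp, by rwa [Polynomial.aeval_def]⟩)
  by_cases hxη : x = genericPoint X
  · subst hxη
    exact ⟨b⁻¹, by simp [toK]⟩
  haveI := CurveCoh.valuationRing_stalk k X hdim x
  rcases ValuationRing.isInteger_or_isInteger (X.presheaf.stalk x) b with hbi | hbi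
  · obtain ⟨a, ha⟩ := mem_range_of_integral hdim hh (by omega) hbi
    let w : X.presheaf.stalk x := h.eval₂ (Curv2.stalkMap k X x) a
    have hw : toK X x w = b := by
      show (toK X x).hom (h.eval₂ _ a) = b
      rw [Polynomial.hom_eval₂, show (toK X x).hom.comp (Curv2.stalkMap k X x) =
        Curv2.stalkMap k X (genericPoint X) from RingHom.ext (toK_stalkMap k X x)]
      exact congrArg (fun r => h.eval₂ _ r) ha
    have hres : X.residue x w = 1 := by
      show (X.residue x).hom (h.eval₂ _ a) = 1
      rw [Polynomial.hom_eval₂]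
      show h.eval₂ (Curv2.resMap k X x) (X.residue x a) = 1
      have h0 : M.eval₂ (Curv2.resMap k X x) (X.residue x a) = 0 := by
        rw [show M = m x * ∏ y ∈ s.erase x, m y from (Finset.mul_prod_erase s m hx).symm, eval₂_mul,
          hm2 x hxη a ha, zero_mul]
      simp [h, h0]
    have hu : IsUnit w := IsLocalRing.notMem_maximalIdeal.mp fun hmem => by
      have : X.residue x w = 0 := (IsLocalRing.residue_eq_zero_iff w).mpr hmem
      rw [hres] at this
      exact one_ne_zero this
    obtain ⟨u, hu⟩ := hu
    refine ⟨(u⁻¹ : (X.presheaf.stalk x)ˣ), eq_inv_of_mul_eq_one_left ?_⟩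
    rw [← hw, ← hu, ← map_mul, Units.inv_mul, map_one]
  · exact hbi

omit hdim in
theorem exists_partialMap {f : X.functionField} {x : X} (hx : f ∈ Set.range (toK X x)) :
    ∃ g : X.PartialMap (Spec (CommRingCat.of k[X])), x ∈ g.domain ∧
      g.hom ≫ lineHom k = g.domain.ι ≫ (X ↘ Spec (CommRingCat.of k)) ∧
      g.fromFunctionField = linePt k X (genericPoint X) f := by
  obtain ⟨a, rfl⟩ := hx
  let g := Scheme.PartialMap.ofFromSpecStalk (X ↘ Spec (CommRingCat.of k)) (lineHom k) (linePt k X x a)
    (linePt_comp k X x a)
  refine ⟨g, Scheme.PartialMap.mem_domain_ofFromSpecStalk _ _ _ _,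
    Scheme.PartialMap.ofFromSpecStalk_comp _ _ _ _, ?_⟩
  have h1 : g.fromSpecStalkOfMem (Scheme.PartialMap.mem_domain_ofFromSpecStalk _ _ _ _) = linePt k X x a :=
    Scheme.PartialMap.fromSpecStalkOfMem_ofFromSpecStalk _ _ _ _
  have h2 : linePt k X (genericPoint X) (toK X x a) = Spec.map (toK X x) ≫ linePt k X x a := by
    rw [← Spec.map_comp]
    refine congrArg Spec.map (CommRingCat.hom_ext ?_)
    refine Polynomial.ringHom_ext (fun c => ?_) ?_
    · show (eval₂RingHom _ _) (C c) = toK X x ((eval₂RingHom _ _) (C c))
      simp only [coe_eval₂RingHom, eval₂_C]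
      exact (toK_stalkMap k X x c).symm
    · show (eval₂RingHom _ _) Polynomial.X = toK X x ((eval₂RingHom _ _) Polynomial.X)
      simp only [coe_eval₂RingHom, eval₂_X]
  rw [h2, ← h1]
  show g.domain.fromSpecStalkOfMem _ _ ≫ g.hom = Spec.map _ ≫ g.domain.fromSpecStalkOfMem _ _ ≫ g.hom
  rw [← Category.assoc (Spec.map _)]
  congr 1
  rw [← cancel_mono g.domain.ι, Category.assoc, Scheme.Opens.fromSpecStalkOfMem_ι,
    Scheme.Opens.fromSpecStalkOfMem_ι]
  exact (X.SpecMap_stalkSpecializes_fromSpecStalk _).symm

theorem isAF : SymProd.IsAF (X ↘ Spec (CommRingCat.of k)) := by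
  intro _ s _
  obtain ⟨f, hf, hs⟩ := exists_function (k := k) hdim s
  let f₀ := X ↘ Spec (CommRingCat.of k)
  haveI : IsSeparated (lineHom k) := inferInstance
  obtain ⟨g₀, -, -, hg₀⟩ := exists_partialMap (k := k) (f := f) (x := genericPoint X) ⟨f, by simp [toK]⟩
  let R := g₀.toRationalMap
  let P := R.toPartialMap
  let V := P.domain
  have hV : V = R.domain := rfl
  have hmem : ∀ x, f ∈ Set.range (toK X x) → x ∈ V := by
    intro x hx
    obtain ⟨g, hgx, -, hg⟩ := exists_partialMap (k := k) hx
    rw [hV]
    exact Scheme.RationalMap.mem_domain.mpr ⟨g, hgx,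
      Scheme.RationalMap.eq_of_fromFunctionField_eq _ _ (hg.trans hg₀.symm)⟩
  have hη : genericPoint X ∈ V := hmem _ ⟨f, by simp [toK]⟩
  have hgen : P.fromFunctionField = linePt k X (genericPoint X) f := by
    rw [← hg₀, ← Scheme.RationalMap.fromFunctionField_toRationalMap P,
      Scheme.RationalMap.toRationalMap_toPartialMap]
    rfl
  have hover : P.hom ≫ lineHom k = V.ι ≫ f₀ := by
    have hdense : Dense (Set.range (V.fromSpecStalkOfMem (genericPoint X) hη)) := by
      intro z
      have hz : (⟨genericPoint X, hη⟩ : V.toScheme) ⤳ z :=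
        V.ι.isOpenEmbedding.isInducing.specializes_iff.mp (genericPoint_specializes _)
      refine closure_mono (Set.singleton_subset_iff.mpr ?_) hz.mem_closure
      exact ⟨IsLocalRing.closedPoint _, Subtype.ext (by
        show (V.fromSpecStalkOfMem (genericPoint X) hη ≫ V.ι) _ = _
        rw [Scheme.Opens.fromSpecStalkOfMem_ι, Scheme.fromSpecStalk_closedPoint])⟩
    haveI : IsDominant (V.fromSpecStalkOfMem (genericPoint X) hη) := ⟨hdense⟩
    refine ext_of_isDominant (V.fromSpecStalkOfMem (genericPoint X) hη) ?_
    rw [← Category.assoc, ← Category.assoc, Scheme.Opens.fromSpecStalkOfMem_ι]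
    exact (congrArg (· ≫ lineHom k) hgen).trans (linePt_comp k X _ f)
  -- the graph
  let γ : V.toScheme ⟶ pullback f₀ (lineHom k) := pullback.lift V.ι P.hom hover.symm
  haveI : IsImmersion (γ ≫ pullback.fst f₀ (lineHom k)) := by
    rw [pullback.lift_fst]; infer_instance
  haveI : IsImmersion γ := IsImmersion.of_comp γ (pullback.fst f₀ (lineHom k))
  have hclosed : IsClosed (Set.range γ) := by
    refine isClosed_of_closure_subset fun z hz => ?_
    by_cases hzV : pullback.fst f₀ (lineHom k) z ∈ V
    · -- over `V` the graph is the image of a section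
      let O : (pullback f₀ (lineHom k)).Opens := pullback.fst f₀ (lineHom k) ⁻¹ᵁ V
      let r := pullback.fst f₀ (lineHom k) ∣_ V
      let σ : V.toScheme ⟶ O.toScheme := IsOpenImmersion.lift O.ι γ (by
        rw [Scheme.Opens.range_ι]
        rintro _ ⟨v, rfl⟩
        show pullback.fst f₀ (lineHom k) (γ v) ∈ V
        rw [← Scheme.Hom.comp_apply, pullback.lift_fst]
        exact v.2)
      have hσ : σ ≫ r = 𝟙 _ := by
        rw [← cancel_mono V.ι, Category.assoc, morphismRestrict_ι, ← Category.assoc,
          IsOpenImmersion.lift_fac, pullback.lift_fst, Category.id_comp]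
      haveI : IsSeparated r := IsZariskiLocalAtTarget.restrict (P := @IsSeparated) inferInstance V
      haveI : IsClosedImmersion (σ ≫ r) := by rw [hσ]; infer_instance
      haveI : IsClosedImmersion σ := IsClosedImmersion.of_comp σ r
      have hcl := σ.isClosedEmbedding.isClosed_range
      have hz' : (⟨z, hzV⟩ : O.toScheme) ∈ closure (Set.range σ) := by
        rw [O.ι.isOpenEmbedding.isInducing.closure_eq_preimage_closure_image, ← Set.range_comp]
        show z ∈ closure (Set.range (O.ι ∘ σ))
        have : (O.ι ∘ σ : _ → _) = γ := funext fun v => by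
          show (σ ≫ O.ι) v = γ v
          rw [IsOpenImmersion.lift_fac]
        rw [this]
        exact hz
      rw [hcl.closure_eq] at hz'
      obtain ⟨v, hv⟩ := hz'
      refine ⟨v, ?_⟩
      rw [← IsOpenImmersion.lift_fac O.ι γ]
      exact congrArg O.ι hv
    · -- a point over a pole is not in the closure
      exfalso
      set x := pullback.fst f₀ (lineHom k) z with hxdef
      haveI := CurveCoh.valuationRing_stalk k X hdim x
      rcases ValuationRing.isInteger_or_isInteger (X.presheaf.stalk x) f with hfi | ⟨a, ha⟩
      · exact hzV (hmem x hfi)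
      have hna : ¬ IsUnit a := fun hu => hzV (hmem x ⟨(hu.unit⁻¹ : (X.presheaf.stalk x)ˣ), by
        have h1 : (algebraMap (X.presheaf.stalk x) X.functionField) ((hu.unit⁻¹ : (X.presheaf.stalk x)ˣ) * a) = 1 := by
          rw [IsUnit.val_inv_mul, map_one]
        rw [map_mul, ha] at h1
        exact eq_of_mul_inv_eq_one h1⟩)
      obtain ⟨W, hxW, a', ha'⟩ := X.presheaf.exists_germ_eq (x := x) a
      let Q := pullback f₀ (lineHom k)
      let pX : Γ(Spec (CommRingCat.of k[X]), ⊤) := (Scheme.ΓSpecIso (CommRingCat.of k[X])).inv Polynomial.X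
      let O : Q.Opens := pullback.fst f₀ (lineHom k) ⁻¹ᵁ W
      let G : Γ(Q, O) := (pullback.fst f₀ (lineHom k)).app W a' *
        (pullback.snd f₀ (lineHom k)).appLE ⊤ O le_top pX - 1
      have hzG : z ∈ Q.basicOpen G := by
        rw [Q.mem_basicOpen (hx := hxW), map_sub, map_one, map_mul]
        have hnu : ¬ IsUnit (Q.presheaf.germ O z hxW ((pullback.fst f₀ (lineHom k)).app W a')) := by
          rw [← Q.mem_basicOpen _ _ hxW, ← Scheme.preimage_basicOpen]
          show ¬ x ∈ X.basicOpen a'
          rw [X.mem_basicOpen a' x hxW, ha']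
          exact hna
        rw [← neg_sub]
        exact (IsLocalRing.isUnit_one_sub_self_of_mem_nonunits _ fun hu => hnu (isUnit_of_mul_isUnit_left hu)).neg
      obtain ⟨_, hvO, v, rfl⟩ := mem_closure_iff.mp hz _ (Q.basicOpen G).2 hzG
      have hG : γ.app O G = 0 := by
        let N : V.toScheme.Opens := γ ⁻¹ᵁ O
        let η : V.toScheme := ⟨genericPoint X, hη⟩
        have hηN : η ∈ N := ((genericPoint_specializes _).mem_open W.2
          (show pullback.fst f₀ (lineHom k) (γ v) ∈ W from Q.basicOpen_le G hvO) :
            genericPoint X ∈ W) |> fun h => by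
          show pullback.fst f₀ (lineHom k) (γ η) ∈ W
          rw [← Scheme.Hom.comp_apply, pullback.lift_fst]
          exact h
        haveI : IsIntegral V.toScheme :=
          haveI : Nonempty V.toScheme := ⟨η⟩
          isIntegral_of_isOpenImmersion V.ι
        refine germ_injective_of_isIntegral V.toScheme η hηN ?_
        rw [map_zero, map_sub, map_one, map_mul, map_sub, map_one, map_mul, sub_eq_zero]
        let e := V.stalkIso η
        apply e.commRingCatIsoToRingEquiv.injective
        rw [map_one, map_mul]
        have hh1 : e.hom (V.toScheme.presheaf.germ N η hηN (γ.app O ((pullback.fst f₀ (lineHom k)).app W a'))) =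
            (f : X.presheaf.stalk (genericPoint X))⁻¹ := by
          rw [← ha]
          have hc : (pullback.fst f₀ (lineHom k)).app W ≫ γ.app O = V.ι.appLE W N
              (fun w hw => by
                show V.ι w ∈ W
                rw [← pullback.lift_fst V.ι P.hom hover.symm]
                exact hw) := by
            rw [← Scheme.Hom.comp_app, Scheme.Hom.app_eq_appLE]
            congr 1
            exact pullback.lift_fst _ _ _
          rw [← CommRingCat.comp_apply (f := (pullback.fst f₀ (lineHom k)).app W), hc]
          show _ = toK X x a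
          rw [← ha']
          simp only [toK, Scheme.Hom.appLE, CommRingCat.comp_apply, TopCat.Presheaf.germ_res_apply,
            TopCat.Presheaf.germ_stalkSpecializes_apply]
          erw [← Scheme.Hom.germ_stalkMap_apply]
          rw [← Scheme.Opens.stalkIso_inv]
          exact Iso.inv_hom_id_apply (V.stalkIso η) _
        have hh2 : e.hom (V.toScheme.presheaf.germ N η hηN (γ.app O ((pullback.snd f₀ (lineHom k)).appLE ⊤ O le_top pX))) =
            f := by
          have hc : (pullback.snd f₀ (lineHom k)).appLE ⊤ O le_top ≫ γ.app O = P.hom.appLE ⊤ N le_top := by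
            rw [Scheme.Hom.app_eq_appLE, Scheme.Hom.appLE_comp_appLE]
            congr 1
            exact pullback.lift_snd _ _ _
          rw [← CommRingCat.comp_apply (f := (pullback.snd f₀ (lineHom k)).appLE ⊤ O le_top), hc]
          have hg := congrArg (fun m : Spec X.functionField ⟶ _ => (Scheme.Hom.appTop m ≫ (Scheme.ΓSpecIso _).hom) pX) hgen
          have hR : (Scheme.Hom.appTop (linePt k X (genericPoint X) f) ≫ (Scheme.ΓSpecIso _).hom) pX = f := by
            show (Scheme.Hom.appTop (Spec.map _) ≫ (Scheme.ΓSpecIso _).hom) pX = f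
            rw [Scheme.ΓSpecIso_naturality, CommRingCat.comp_apply]
            rw [show pX = (Scheme.ΓSpecIso (CommRingCat.of k[X])).inv Polynomial.X from rfl, Iso.inv_hom_id_apply]
            exact eval₂_X _ _
          refine Eq.trans ?_ (hg.trans hR)
          have hfs : ∀ (φ : V.toScheme.presheaf.stalk η ⟶ X.functionField),
              (Spec.map φ ≫ V.toScheme.fromSpecStalk η ≫ P.hom).appTop ≫ (Scheme.ΓSpecIso _).hom =
                P.hom.appTop ≫ V.toScheme.presheaf.germ ⊤ η trivial ≫ φ := by
            intro φ
            simp only [Scheme.Hom.comp_appTop, Scheme.fromSpecStalk_appTop, Category.assoc]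
            rw [Scheme.ΓSpecIso_naturality]
            simp
          show _ = ((Spec.map _ ≫ V.toScheme.fromSpecStalk η ≫ P.hom).appTop ≫ (Scheme.ΓSpecIso _).hom) pX
          rw [hfs]
          simp only [Scheme.Hom.appLE, CommRingCat.comp_apply, TopCat.Presheaf.germ_res_apply]
          congr 1
          · exact congrArg _ (IsIso.eq_inv_of_hom_inv_id (f := V.ι.stalkMap η) (by
              rw [← Scheme.Opens.stalkIso_inv]; exact (V.stalkIso η).inv_hom_id))
          · exact TopCat.Presheaf.germ_res_apply _ _ _ _ _
        show e.hom _ * e.hom _ = 1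
        rw [hh1, hh2, inv_mul_cancel₀]
        intro h0
        exact hf Polynomial.X Polynomial.X_ne_zero (by simpa using h0)
      have h0 : v ∈ V.toScheme.basicOpen (γ.app O G) := by
        rw [← Scheme.preimage_basicOpen]; exact hvO
      rw [hG, Scheme.basicOpen_zero] at h0
      exact h0
  haveI : IsClosedImmersion γ := IsClosedImmersion.of_isPreimmersion γ hclosed
  haveI : IsProper P.hom := by
    rw [← pullback.lift_snd V.ι P.hom hover.symm]; infer_instance
  have hgenpt : P.hom ⟨genericPoint X, hη⟩ = ⟨⊥, Ideal.bot_prime⟩ := by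
    have : P.hom ⟨genericPoint X, hη⟩ = linePt k X (genericPoint X) f (IsLocalRing.closedPoint _) := by
      rw [← hgen]
      show _ = (V.fromSpecStalkOfMem (genericPoint X) _ ≫ P.hom) _
      rw [Scheme.Hom.comp_apply]
      congr 1
      exact Subtype.ext (by
        show _ = (V.fromSpecStalkOfMem (genericPoint X) _ ≫ V.ι) _
        rw [Scheme.Opens.fromSpecStalkOfMem_ι, Scheme.fromSpecStalk_closedPoint])
    rw [this]
    refine PrimeSpectrum.ext ?_
    refine (eq_bot_iff.mpr fun p hp => ?_)
    by_contra hne
    have h1 : p.eval₂ (Curv2.stalkMap k X (genericPoint X)) f ∈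
        IsLocalRing.maximalIdeal (X.presheaf.stalk (genericPoint X)) := hp
    rw [show IsLocalRing.maximalIdeal X.functionField = ⊥ from IsLocalRing.maximalIdeal_eq_bot,
      Ideal.mem_bot] at h1
    exact hf p hne h1
  haveI : CompactSpace X := QuasiCompact.compactSpace_of_compactSpace (X ↘ Spec (CommRingCat.of k))
  haveI : LocallyQuasiFinite P.hom := by
    haveI : QuasiCompact P.hom := inferInstance
    refine LocallyQuasiFinite.of_finite_preimage_singleton _ fun a => ?_
    have hfin : ∀ Z : Set V.toScheme, IsClosed Z → (⟨genericPoint X, hη⟩ : V.toScheme) ∉ Z → Z.Finite := by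
      intro Z hZ hZη
      have hc : genericPoint X ∉ closure (V.ι '' Z) := fun hmem => hZη (by
        have := V.ι.isOpenEmbedding.isInducing.closure_eq_preimage_closure_image Z
        rw [hZ.closure_eq] at this
        rw [this]; exact hmem)
      exact ((VarDim.finite_of_isClosed k hdim isClosed_closure hc).subset subset_closure).of_finite_image
        V.ι.isOpenEmbedding.injective.injOn
    by_cases hgt : a = ⟨⊥, Ideal.bot_prime⟩
    · subst hgt
      refine (Set.finite_singleton (⟨genericPoint X, hη⟩ : V.toScheme)).subset fun v hv => ?_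
      by_contra hne
      have hvc : IsClosed ({v} : Set V.toScheme) := by
        have := (VarDim.isClosed_singleton_of_ne_genericPoint k hdim
          (fun h => hne (Subtype.ext h) : (v.1 : X) ≠ genericPoint X)).preimage V.ι.continuous
        convert this using 1
        ext w
        exact ⟨fun h => congrArg Subtype.val (show w = v from h), fun h => Subtype.ext h⟩
      have hcl := P.hom.isClosedMap _ hvc
      erw [Set.image_singleton] at hcl
      rw [show P.hom v = _ from hv] at hcl
      have := (PrimeSpectrum.isClosed_singleton_iff_isMaximal _).mp hcl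
      exact (Polynomial.not_isField k) (Ring.isField_iff_isSimpleOrder_ideal.mpr
        ⟨fun I => (em (I = ⊥)).imp id fun hI => (this.out.2 I (bot_lt_iff_ne_bot.mpr hI))⟩)
    · refine (hfin (P.hom ⁻¹' closure {a}) (isClosed_closure.preimage P.hom.continuous) fun hmem => hgt ?_).subset
        fun v hv => ?_
      · change P.hom _ ∈ closure _ at hmem
        rw [hgenpt, ← specializes_iff_mem_closure] at hmem
        exact PrimeSpectrum.ext (le_bot_iff.mp (by
          have := (PrimeSpectrum.le_iff_specializes a ⟨⊥, Ideal.bot_prime⟩).mpr hmem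
          exact this))
      · exact subset_closure hv
  haveI : IsFinite P.hom := IsFinite.of_isProper_of_locallyQuasiFinite P.hom
  haveI : IsAffine V.toScheme := isAffine_of_isAffineHom P.hom
  exact ⟨V, ‹IsAffine V.toScheme›, fun x hx => hmem x (hs x hx)⟩

end Groth.Agent.RelDiv.CurveAF

end
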