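import Groth.Agent.RelDiv.Power
import Groth.Agent.SymCmp.FlatQuot

/-!
# The diagonals of a fibre power of a curve
-/

set_option autoImplicit false

noncomputable section

universe u

open CategoryTheory CategoryTheory.Limits AlgebraicGeometry SymProd
open Groth.Agent.IdealSh.Comap

namespace Groth.Agent.RelDiv

variable {X S : Scheme.{u}} (f : X ⟶ S)

/-- Two projections. -/
abbrev pairMap (n : ℕ) (i j : Fin n) : (pw f n).left ⟶ PicF.XT f (Over.mk f) :=
  pullback.lift (prj f n i) (prj f n j) ((prj_comp f n i).trans (prj_comp f n j).symm)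

theorem flat_pairMap_last [Flat f] (m : ℕ) :
    Flat (pairMap f (m + 2) (Fin.last m).castSucc (Fin.last (m + 1))) := by
  have hb : Flat (pw f m).hom := SymCmp.flat_fibPowBase f m
  have hl : Flat (prj f (m + 1) (Fin.last m)) :=
    MorphismProperty.of_isPullback (P := @Flat) (isPullback_initMap f m) hb
  have h1 : IsPullback (initMap f (m + 1)).left (pairMap f (m + 2) (Fin.last m).castSucc (Fin.last (m + 1)))
      (prj f (m + 1) (Fin.last m)) (pullback.fst f (Over.mk f).hom) := by
    refine IsPullback.of_bot ?_ ?_ (IsPullback.of_hasPullback f (Over.mk f).hom).flip.flip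
    · rw [pullback.lift_snd, prj_comp]
      exact isPullback_initMap f (m + 1)
    · rw [initMap_prj, pullback.lift_fst]
  exact MorphismProperty.of_isPullback (P := @Flat) h1 hl

theorem flat_pairMap [Flat f] (n : ℕ) (i j : Fin n) (hij : i ≠ j) : Flat (pairMap f n i j) := by
  obtain ⟨m, rfl⟩ : ∃ m, n = m + 2 := ⟨n - 2, by
    have := Fin.val_ne_iff.mpr hij
    have := i.isLt; have := j.isLt
    omega⟩
  let a : Fin (m + 2) := (Fin.last m).castSucc
  let b : Fin (m + 2) := Fin.last (m + 1)
  have hab : a ≠ b := fun h => by simp [a, b, Fin.ext_iff] at h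
  let e₁ : Equiv.Perm (Fin (m + 2)) := Equiv.swap a i
  let τ : Equiv.Perm (Fin (m + 2)) := e₁.trans (Equiv.swap (e₁ b) j)
  have hτa : τ a = i := by
    show Equiv.swap (e₁ b) j (e₁ a) = i
    rw [show e₁ a = i from Equiv.swap_apply_left a i]
    refine Equiv.swap_apply_of_ne_of_ne ?_ hij
    intro h
    exact hab (e₁.injective ((Equiv.swap_apply_left a i).trans h))
  have hτb : τ b = j := Equiv.swap_apply_left _ _
  haveI := flat_pairMap_last f m
  haveI : IsIso (permHom f (m + 2) τ.symm) := (permIso f (m + 2) τ.symm).isIso_hom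
  have he : permHom f (m + 2) τ.symm ≫ pairMap f (m + 2) a b = pairMap f (m + 2) i j := by
    apply pullback.hom_ext
    · rw [Category.assoc, pullback.lift_fst, pullback.lift_fst, permHom_π]
      exact congrArg (prj f (m + 2)) hτa
    · rw [Category.assoc, pullback.lift_snd, pullback.lift_snd, permHom_π]
      exact congrArg (prj f (m + 2)) hτb
  rw [← he]
  infer_instance

variable [SmoothOfRelativeDimension 1 f] [IsSeparated f]

/-- The diagonal of the curve. -/
abbrev diagIdeal : (PicF.XT f (Over.mk f)).IdealSheafData :=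
  _root_.HilbD.secGraph f (Over.mk f) (𝟙 X) (Category.id_comp f)

theorem isEffCartierIdeal_diag (n : ℕ) (i j : Fin n) (hij : i ≠ j) :
    BlowUp.IsEffCartierIdeal ((diagIdeal f).comap (pairMap f n i j)) := by
  haveI : Smooth f := SmoothOfRelativeDimension.smooth (n := 1) f
  haveI := flat_pairMap f n i j hij
  exact IdealSh.EffCartier.comap_of_flat _
    (cartier_of_div (HilbD.isFinLocFreeOfDeg_secGraph f (Over.mk f) (𝟙 X) (Category.id_comp f)).1)

theorem mem_support_of_eq (n : ℕ) (i j : Fin n) {Q : Scheme.{u}} (ξ : Q ⟶ (pw f n).left) (pt : Q)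
    (h : ξ ≫ prj f n i = ξ ≫ prj f n j) :
    ξ pt ∈ ((diagIdeal f).comap (pairMap f n i j)).support := by
  haveI := HilbD.isClosedImmersion_graph f (Over.mk f) (𝟙 X) (Category.id_comp f)
  have he : (ξ ≫ prj f n j) ≫ HilbD.graph f (Over.mk f) (𝟙 X) (Category.id_comp f) = ξ ≫ pairMap f n i j := by
    apply pullback.hom_ext
    · simp only [Category.assoc, pullback.lift_fst]
      erw [Category.comp_id]
      exact h.symm
    · simp only [Category.assoc, pullback.lift_snd]
      erw [Category.comp_id]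
  rw [Scheme.IdealSheafData.support_comap]
  show pairMap f n i j (ξ pt) ∈ (diagIdeal f).support
  rw [← Scheme.Hom.comp_apply, ← he, Scheme.Hom.comp_apply]
  rw [← SetLike.mem_coe]
  show _ ∈ ((HilbD.graph f (Over.mk f) (𝟙 X) (Category.id_comp f)).ker.support : Set (PicF.XT f (Over.mk f) : Scheme.{u}))
  rw [Scheme.Hom.support_ker]
  exact subset_closure ⟨_, rfl⟩

omit [SmoothOfRelativeDimension 1 f] [IsSeparated f] in
theorem isEffCartierIdeal_prod {P : Scheme.{u}} {ι : Type*} (s : Finset ι) (I : ι → P.IdealSheafData)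
    (h : ∀ i ∈ s, BlowUp.IsEffCartierIdeal (I i)) : BlowUp.IsEffCartierIdeal (∏ i ∈ s, I i) := by
  classical
  induction s using Finset.induction_on with
  | empty =>
    rw [Finset.prod_empty, Scheme.IdealSheafData.one_eq_top]
    exact IdealSh.EffCartier.top
  | insert a s ha ih =>
    rw [Finset.prod_insert ha]
    exact IdealSh.EffCartier.mul (h a (Finset.mem_insert_self _ _))
      (ih fun i hi => h i (Finset.mem_insert_of_mem hi))

/-- The sum of all diagonals. -/
def bigDiag (n : ℕ) : (pw f n).left.IdealSheafData :=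
  ∏ p ∈ Finset.univ.filter (fun p : Fin n × Fin n => p.1 ≠ p.2), (diagIdeal f).comap (pairMap f n p.1 p.2)

theorem isEffCartierIdeal_bigDiag (n : ℕ) : BlowUp.IsEffCartierIdeal (bigDiag f n) :=
  isEffCartierIdeal_prod _ _ fun p hp =>
    isEffCartierIdeal_diag f n p.1 p.2 (Finset.mem_filter.mp hp).2

theorem injective_prj_of_notMem (n : ℕ) {Q : Scheme.{u}} (ξ : Q ⟶ (pw f n).left) (pt : Q)
    (hz : ξ pt ∉ (bigDiag f n).support) :
    Function.Injective fun i => ξ ≫ prj f n i := by
  classical
  intro i j h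
  by_contra hij
  apply hz
  have hmem : (i, j) ∈ Finset.univ.filter (fun p : Fin n × Fin n => p.1 ≠ p.2) :=
    Finset.mem_filter.mpr ⟨Finset.mem_univ _, hij⟩
  rw [bigDiag, ← Finset.mul_prod_erase _ _ hmem]
  rw [← SetLike.mem_coe, Scheme.IdealSheafData.support_mul]
  exact Or.inl (mem_support_of_eq f n i j ξ pt h)

omit [SmoothOfRelativeDimension 1 f] [IsSeparated f] in
/-- A section that vanishes off an effective Cartier divisor is zero. -/
theorem eq_zero_of_forall_notMem {P : Scheme.{u}} {I : P.IdealSheafData} (hI : BlowUp.IsEffCartierIdeal I)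
    {W : P.Opens} (r : Γ(P, W))
    (h : ∀ z ∈ W, z ∉ I.support → ∃ s : Γ(P, W), z ∈ P.basicOpen s ∧ s * r = 0) : r = 0 := by
  refine TopCat.Presheaf.section_ext P.sheaf _ _ _ fun x hx => ?_
  obtain ⟨V, hxV, hVW, t, ht, et⟩ := IdealSh.EffCartier.exists_equation hI x W hx
  let rV : Γ(P, V.1) := P.presheaf.map (homOfLE hVW).op r
  suffices hr : rV = 0 by
    have := congrArg (P.presheaf.germ V.1 x hxV) hr
    rw [TopCat.Presheaf.germ_res_apply, map_zero] at this
    exact this.trans (map_zero _).symm
  have hres : P.presheaf.map (homOfLE (P.basicOpen_le t)).op rV = 0 := by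
    refine TopCat.Presheaf.section_ext P.sheaf _ _ _ fun z hz => ?_
    have hz' : z ∉ I.support := fun hmem => by
      have h2 : z ∈ P.zeroLocus (U := V.1) (I.ideal V) := by
        have h3 : z ∈ P.zeroLocus (U := V.1) (I.ideal V) ∩ V.1 := by
          rw [← I.coe_support_inter V]; exact ⟨hmem, P.basicOpen_le t hz⟩
        exact h3.1
      rw [Scheme.mem_zeroLocus_iff] at h2
      exact h2 t (et ▸ Ideal.mem_span_singleton_self t) hz
    obtain ⟨s, hs, hsr⟩ := h z (hVW (P.basicOpen_le t hz)) hz'
    have e1 := congrArg (P.presheaf.germ W z (hVW (P.basicOpen_le t hz))) hsr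
    rw [map_mul, map_zero] at e1
    have e2 : IsUnit (P.presheaf.germ W z (hVW (P.basicOpen_le t hz)) s) := (P.mem_basicOpen s z _).mp hs
    show P.presheaf.germ _ z hz _ = P.presheaf.germ _ z hz 0
    rw [TopCat.Presheaf.germ_res_apply, TopCat.Presheaf.germ_res_apply, map_zero]
    exact (e2.mul_right_eq_zero).mp e1
  haveI := V.2.isLocalization_basicOpen t
  obtain ⟨⟨_, k, rfl⟩, hk⟩ := (IsLocalization.map_eq_zero_iff (Submonoid.powers t)
    Γ(P, P.basicOpen t) rV).mp hres
  exact (mem_nonZeroDivisors_iff_left.mp (pow_mem ht k)) _ hk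

end Groth.Agent.RelDiv

end
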