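import Groth.Agent.RelDiv.Sum
import Groth.Agent.IdealSh.Extend

/-!
# Differences of relative divisors
-/

set_option autoImplicit false

universe u

open CategoryTheory CategoryTheory.Limits AlgebraicGeometry TopologicalSpace
open Groth.Agent.IdealSh.Comap

namespace Groth.Agent.RelDiv

variable {X S : Scheme.{u}}

theorem fg_ideal {I : X.IdealSheafData} (hI : BlowUp.IsEffCartierIdeal I) (U : X.affineOpens) : (I.ideal U).FG := by
  refine IdealSh.Extend.fg_of_forall_exists U fun x hx => ?_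
  obtain ⟨V, hxV, hVU, t, -, ht⟩ := IdealSh.EffCartier.exists_equation hI x U.1 hx
  obtain ⟨g, hg, hxg⟩ := U.2.exists_basicOpen_le ⟨x, hxV⟩ hx
  exact ⟨g, hxg, by rw [IdealSh.EffCartier.restrict_eq hg ht]; exact ⟨{_}, by simp; rfl⟩⟩

theorem colon_map {A B : Type u} [CommRing A] [CommRing B] [Algebra A B] (f : A) [IsLocalization.Away f B]
    (I J : Ideal A) (hI : I.FG) :
    (J.colon (I : Set A)).map (algebraMap A B) = (J.map (algebraMap A B)).colon (I.map (algebraMap A B) : Set B) := by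
  refine le_antisymm (Ideal.map_le_iff_le_comap.mpr fun x hx => ?_) fun y hy => ?_
  · rw [Ideal.mem_comap, Submodule.mem_colon]
    intro z hz
    have : Ideal.span {algebraMap A B x} * I.map (algebraMap A B) ≤ J.map (algebraMap A B) := by
      rw [← Set.image_singleton, ← Ideal.map_span, ← Ideal.map_mul]
      refine Ideal.map_mono (Ideal.mul_le.mpr fun r hr s hs => ?_)
      obtain ⟨c, rfl⟩ := Ideal.mem_span_singleton'.mp hr
      rw [mul_assoc]
      exact J.mul_mem_left c (Submodule.mem_colon.mp hx s hs)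
    exact this (Ideal.mul_mem_mul (Ideal.mem_span_singleton_self _) hz)
  · classical
    obtain ⟨⟨x, d⟩, hxd⟩ := IsLocalization.surj (Submonoid.powers f) y
    obtain ⟨G, hG⟩ := hI
    have hm : ∀ s ∈ G, ∃ m : Submonoid.powers f, (m : A) * (x * s) ∈ J := fun s hs => by
      have h1 := Submodule.mem_colon.mp hy _ (Ideal.mem_map_of_mem (algebraMap A B) (hG ▸ Ideal.subset_span hs))
      have h2 := Ideal.mul_mem_left _ (algebraMap A B d) h1
      rw [smul_eq_mul, ← mul_assoc, mul_comm (algebraMap A B d), hxd, ← map_mul] at h2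
      obtain ⟨m, hm, hm'⟩ := (IsLocalization.algebraMap_mem_map_algebraMap_iff (Submonoid.powers f) B J _).mp h2
      exact ⟨⟨m, hm⟩, hm'⟩
    choose! m hm using hm
    let M := ∏ s ∈ G, m s
    have hM : (M : A) * x ∈ J.colon (I : Set A) := by
      rw [Submodule.mem_colon]
      intro z hz
      have hle : I ≤ J.colon {(M : A) * x} := by
        rw [← hG, Submodule.span_le]
        intro s hs
        rw [SetLike.mem_coe, Submodule.mem_colon_singleton, smul_eq_mul]
        show s * ((M : A) * x) ∈ J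
        rw [show M = m s * ∏ t ∈ G.erase s, m t from (Finset.mul_prod_erase G m hs).symm, Submonoid.coe_mul,
          show s * ((m s : A) * ((∏ t ∈ G.erase s, m t : Submonoid.powers f) : A) * x) =
            ((∏ t ∈ G.erase s, m t : Submonoid.powers f) : A) * ((m s : A) * (x * s)) by ring]
        exact J.mul_mem_left _ (hm s hs)
      have := Submodule.mem_colon_singleton.mp (hle hz)
      rw [smul_eq_mul, mul_comm] at this
      exact this
    have h3 := Ideal.mem_map_of_mem (algebraMap A B) hM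
    rw [map_mul, ← hxd] at h3
    refine (Ideal.unit_mul_mem_iff_mem _ ((IsLocalization.map_units B M).mul (IsLocalization.map_units B d))).mp ?_
    rw [mul_assoc, mul_comm (algebraMap A B d)]
    exact h3

/-- The colon of an ideal sheaf by an effective Cartier ideal. -/
noncomputable def diff (I₁ I₂ : X.IdealSheafData) (h : BlowUp.IsEffCartierIdeal I₁) : X.IdealSheafData where
  ideal U := (I₂.ideal U).colon (I₁.ideal U : Set Γ(X, U.1))
  map_ideal_basicOpen U g := by
    haveI : IsLocalization.Away g Γ(X, X.basicOpen g) := U.2.isLocalization_basicOpen g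
    have := colon_map (B := Γ(X, X.basicOpen g)) g (I₁.ideal U) (I₂.ideal U) (fg_ideal h U)
    refine this.trans ?_
    rw [← I₁.map_ideal_basicOpen U g, ← I₂.map_ideal_basicOpen U g]
    rfl

theorem diff_spec {I₁ I₂ : X.IdealSheafData} (h₁ : BlowUp.IsEffCartierIdeal I₁) (h₂ : BlowUp.IsEffCartierIdeal I₂)
    (hle : I₂ ≤ I₁) : BlowUp.IsEffCartierIdeal (diff I₁ I₂ h₁) ∧ I₂ = I₁ * diff I₁ I₂ h₁ := by
  have key : ∀ x : X, ∃ U : X.affineOpens, x ∈ U.1 ∧ ∃ c ∈ nonZeroDivisors Γ(X, U.1),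
      (diff I₁ I₂ h₁).ideal U = Ideal.span {c} ∧ I₂.ideal U = (I₁ * diff I₁ I₂ h₁).ideal U := by
    intro x
    obtain ⟨U, hxU, -, a, b, ha, hb, ea, eb⟩ := IdealSh.EffCartier.exists_equation₂ h₁ h₂ x ⊤ trivial
    obtain ⟨c, hc⟩ := Ideal.mem_span_singleton'.mp (ea ▸ hle U (eb ▸ Ideal.mem_span_singleton_self b))
    have e : (diff I₁ I₂ h₁).ideal U = Ideal.span {c} := by
      show (I₂.ideal U).colon (I₁.ideal U : Set Γ(X, U.1)) = _
      ext t
      rw [Submodule.mem_colon, ea, eb]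
      constructor
      · intro ht
        obtain ⟨r, hr⟩ := Ideal.mem_span_singleton'.mp (ht a (Ideal.mem_span_singleton_self a))
        refine Ideal.mem_span_singleton'.mpr ⟨r, ?_⟩
        rw [smul_eq_mul, ← hc] at hr
        exact sub_eq_zero.mp ((mem_nonZeroDivisors_iff_right.mp ha) _ (by linear_combination hr))
      · intro ht z hz
        obtain ⟨r, rfl⟩ := Ideal.mem_span_singleton'.mp ht
        obtain ⟨s, rfl⟩ := Ideal.mem_span_singleton'.mp hz
        exact Ideal.mem_span_singleton'.mpr ⟨r * s, by rw [smul_eq_mul, ← hc]; ring⟩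
    refine ⟨U, hxU, c, (mul_mem_nonZeroDivisors.mp (hc ▸ hb)).1, e, ?_⟩
    rw [Scheme.IdealSheafData.ideal_mul, Pi.mul_apply, ea, e, eb, Ideal.span_singleton_mul_span_singleton,
      mul_comm a c, hc]
  refine ⟨fun x => ?_, ext_of_forall_exists _ _ fun x => ?_⟩
  · obtain ⟨U, hx, c, hc, e, -⟩ := key x
    exact ⟨U, hx, c, hc, e⟩
  · obtain ⟨U, hx, c, -, -, e⟩ := key x
    exact ⟨U, hx, e⟩

variable {f : X ⟶ S} [SmoothOfRelativeDimension 1 f]

theorem exists_difference {I₁ I₂ : X.IdealSheafData} (hle : I₂ ≤ I₁)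
    (h₁ : Mor2.IsFinLocFree (I₁.subschemeι ≫ f)) (h₂ : Mor2.IsFinLocFree (I₂.subschemeι ≫ f)) :
    ∃ I : X.IdealSheafData, Mor2.IsFinLocFree (I.subschemeι ≫ f) ∧ I₂ = I₁ * I ∧
      ∀ y, (I₂.subschemeι ≫ f).finrank y = (I₁.subschemeι ≫ f).finrank y + (I.subschemeι ≫ f).finrank y := by
  obtain ⟨hf₁, hl₁, hp₁⟩ := h₁
  obtain ⟨hf₂, hl₂, hp₂⟩ := h₂
  haveI := hf₁; haveI := hl₁; haveI := hp₁; haveI := hf₂; haveI := hl₂; haveI := hp₂
  have hC₁ : BlowUp.IsEffCartierIdeal I₁ := isEffCartierIdeal f I₁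
  obtain ⟨hC, he⟩ := diff_spec hC₁ (isEffCartierIdeal f I₂) hle
  set I := diff I₁ I₂ hC₁
  haveI : Flat ((I₁ * I).subschemeι ≫ f) := by rw [← he]; exact hl₂
  haveI hl : Flat (I.subschemeι ≫ f) := IdealSh.RelFlat.flat_difference f hC₁ hC
  obtain ⟨-, hp⟩ := locallyQuasiFinite_and_lfp f I hC
  obtain ⟨j, hj, ej, -⟩ := exists_incl (mul_le_snd I₁ I)
  have hf : IsFinite (I.subschemeι ≫ f) := by
    haveI := hj
    haveI : IsFinite ((I₁ * I).subschemeι ≫ f) := by rw [← he]; exact hf₂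
    rw [← ej, Category.assoc]; infer_instance
  exact ⟨I, ⟨hf, hl, hp⟩, he, he ▸ (isFinLocFree_mul ⟨hf₁, hl₁, hp₁⟩ ⟨hf, hl, hp⟩).2⟩

end Groth.Agent.RelDiv
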