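import Groth.Agent.EGA4Lib.SmoothRegular
import Groth.Agent.EGA4Lib.FibreLoc
import Groth.Agent.RegLoc.Basic
import Groth.Agent.CAlg76.FibreDim
import Groth.Agent.S3830

/-!
# Fibres of smooth algebras of relative dimension one
-/

set_option autoImplicit false

universe u

open TensorProduct IsLocalRing AlgebraicGeometry

namespace Groth.Agent.RelDiv

variable (A : Type u) {B : Type u} [CommRing A] [CommRing B] [Algebra A B]

/-- The local ring of the fibre at `q` is a localization of the fibre ring, compatibly with `A`. -/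
theorem exists_algEquiv (q : Ideal B) [q.IsPrime] :
    ∃ (Q : Ideal ((q.comap (algebraMap A B)).Fiber B)) (_ : Q.IsPrime),
      Nonempty (Localization.AtPrime Q ≃ₐ[A] EGA4.FibLocRing A B q) := by
  obtain ⟨Q, hQp, hQ⟩ := EGA4Lib.exists_fiber_prime A q
  refine ⟨Q, hQp, ?_⟩
  suffices H : ∀ (p : Ideal A) [p.IsPrime] (Q : Ideal (p.Fiber B)) [Q.IsPrime] (r : Ideal B) [r.IsPrime],
      Q.comap (Algebra.TensorProduct.includeRight (R := A) (A := p.ResidueField) (B := B)) = r →
      r.comap (algebraMap A B) = p → Nonempty (Localization.AtPrime Q ≃ₐ[A] EGA4.FibLocRing A B r) from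
    H _ Q q hQ rfl
  intro p _ Q _ r _ hr hp
  subst hr
  have hI : (p.map (algebraMap A B)).map (algebraMap B (Localization.AtPrime (Q.comap
        (Algebra.TensorProduct.includeRight (R := A) (A := p.ResidueField) (B := B))))) =
      ((Q.comap (Algebra.TensorProduct.includeRight (R := A) (A := p.ResidueField) (B := B))).comap
        (algebraMap A B)).map (algebraMap A _) := by
    rw [hp, Ideal.map_map, ← IsScalarTower.algebraMap_eq]
  exact ⟨(Ideal.Fiber.algEquivAux₂ p Q).trans (Ideal.quotientEquivAlgOfEq A hI)⟩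

/-- The fibre local rings of a smooth algebra are regular local rings, hence domains. -/
theorem isRegularLocalRing_fibLocRing [Algebra.Smooth A B] (q : Ideal B) [q.IsPrime] :
    IsRegularLocalRing (EGA4.FibLocRing A B q) := by
  obtain ⟨Q, _, ⟨e⟩⟩ := exists_algEquiv A q
  let κ := (q.comap (algebraMap A B)).ResidueField
  have h : (⟨Q, ‹_›⟩ : PrimeSpectrum ((q.comap (algebraMap A B)).Fiber B)) ∈ EGA4.regLocus _ :=
    EGA4Lib.mem_regLocus_of_smooth (R := κ) _ (inferInstanceAs (IsRegularLocalRing (Localization.AtPrime _)))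
  haveI : IsRegularLocalRing (Localization.AtPrime Q) := h
  exact IsRegularLocalRing.of_ringEquiv (R := Localization.AtPrime Q) e.toRingEquiv

theorem isDomain_fibLocRing [Algebra.Smooth A B] (q : Ideal B) [q.IsPrime] :
    IsDomain (EGA4.FibLocRing A B q) :=
  haveI := isRegularLocalRing_fibLocRing A q
  RegLoc.isDomain _

variable [Algebra.IsStandardSmoothOfRelativeDimension 1 A B]

/-- The fibre local rings in relative dimension one are principal ideal domains. -/
theorem isPrincipalIdealRing_fibLocRing (q : Ideal B) [q.IsPrime] :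
    IsPrincipalIdealRing (EGA4.FibLocRing A B q) := by
  haveI : Algebra.IsStandardSmooth A B := Algebra.IsStandardSmoothOfRelativeDimension.isStandardSmooth 1
  haveI : Algebra.Smooth A B := inferInstance
  haveI := isRegularLocalRing_fibLocRing A q
  haveI := isDomain_fibLocRing A q
  obtain ⟨Q, _, ⟨e⟩⟩ := exists_algEquiv A q
  let κ := (q.comap (algebraMap A B)).ResidueField
  let C := (q.comap (algebraMap A B)).Fiber B
  haveI : Algebra.IsStandardSmoothOfRelativeDimension 1 κ C :=
    Algebra.IsStandardSmoothOfRelativeDimension.baseChange 1 κ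
  have hC : ringKrullDim C ≤ 1 := CAlg76.FibreDim.ringKrullDim_le_of_smooth (K := κ) (d := 1) (by
    rw [HasRingHomProperty.Spec_iff (P := @AlgebraicGeometry.SmoothOfRelativeDimension 1)]
    refine RingHom.locally_of RingHom.isStandardSmoothOfRelativeDimension_respectsIso _ ?_
    exact (RingHom.isStandardSmoothOfRelativeDimension_algebraMap (n := 1)).mpr inferInstance)
  have hF : ringKrullDim (EGA4.FibLocRing A B q) ≤ 1 := by
    rw [← ringKrullDim_eq_of_ringEquiv e.toRingEquiv,
      IsLocalization.AtPrime.ringKrullDim_eq_height Q (Localization.AtPrime Q)]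
    exact (Ideal.height_le_ringKrullDim_of_ne_top (Ideal.IsPrime.ne_top ‹_›)).trans hC
  have hm : (maximalIdeal (EGA4.FibLocRing A B q)).spanFinrank ≤ 1 := by
    have h := IsRegularLocalRing.spanFinrank_maximalIdeal (R := EGA4.FibLocRing A B q)
    rw [← h] at hF
    exact_mod_cast hF
  have hp : (maximalIdeal (EGA4.FibLocRing A B q)).IsPrincipal :=
    by
      rcases Nat.le_one_iff_eq_zero_or_eq_one.mp hm with h0 | h1
      · rw [(Submodule.spanFinrank_eq_zero_iff_eq_bot (IsNoetherian.noetherian _)).mp h0]; infer_instance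
      · exact ((Submodule.spanFinrank_eq_one_iff _).mp h1).1
  exact ((tfae_of_isNoetherianRing_of_isLocalRing_of_isDomain (R := EGA4.FibLocRing A B q)).out 0 4).mpr hp

/-- A quasi-finite closed subscheme contains no fibre component. -/
theorem exists_notMem_of_quasiFinite (J : Ideal B) [Algebra.QuasiFinite A (B ⧸ J)] (q : Ideal B) [q.IsPrime] :
    ∃ t ∈ J, algebraMap B (EGA4.FibLocRing A B q) t ≠ 0 := by
  by_contra! hne
  haveI : Algebra.IsStandardSmooth A B := Algebra.IsStandardSmoothOfRelativeDimension.isStandardSmooth 1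
  let F := EGA4.FibLocRing A B q
  let φ : B ⧸ J →ₐ[A] F := Ideal.Quotient.liftₐ J (IsScalarTower.toAlgHom A B F) hne
  haveI : Algebra.QuasiFinite A F := by
    refine .of_forall_exists_mul_mem_range φ fun x => ?_
    obtain ⟨y, rfl⟩ := Ideal.Quotient.mk_surjective x
    obtain ⟨b, s, rfl⟩ := IsLocalization.exists_mk'_eq q.primeCompl y
    refine ⟨Ideal.Quotient.mk J s, ?_, Ideal.Quotient.mk J b, ?_⟩
    · exact (IsLocalization.map_units (Localization.AtPrime q) s).map (Ideal.Quotient.mk _)
    · show algebraMap B F b = _ * algebraMap B F s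
      exact ((congrArg (Ideal.Quotient.mk _) (IsLocalization.mk'_spec (Localization.AtPrime q) b s)).symm.trans
        (map_mul _ _ _))
  obtain ⟨Q, _, ⟨e⟩⟩ := exists_algEquiv A q
  let κ := (q.comap (algebraMap A B)).ResidueField
  let C := (q.comap (algebraMap A B)).Fiber B
  let L := Localization.AtPrime Q
  haveI : Algebra.QuasiFinite A L := (Algebra.QuasiFinite.iff_of_algEquiv e).mpr inferInstance
  haveI : Algebra.QuasiFinite κ L := Algebra.QuasiFinite.of_restrictScalars A κ L
  haveI : Algebra.IsStandardSmoothOfRelativeDimension 1 κ C :=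
    Algebra.IsStandardSmoothOfRelativeDimension.baseChange 1 κ
  haveI : Algebra.IsStandardSmooth κ C := Algebra.IsStandardSmoothOfRelativeDimension.isStandardSmooth 1
  haveI : Algebra.QuasiFiniteAt κ Q := ‹Algebra.QuasiFinite κ L›
  haveI : Algebra.IsSmoothAt κ Q := inferInstanceAs (Algebra.FormallySmooth κ (Localization.AtPrime Q))
  haveI : Algebra.FormallyEtale κ L := S3830.result κ C Q inferInstance
  haveI : Algebra.FormallyEtale C L := Algebra.FormallyEtale.of_isLocalization Q.primeCompl
  haveI : Subsingleton (L ⊗[C] Ω[C⁄κ]) :=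
    (KaehlerDifferential.isBaseChange_of_formallyEtale κ C L).equiv.toEquiv.subsingleton
  haveI : Nontrivial C := (inferInstanceAs (Nontrivial (C ⧸ Q)) : Nontrivial (C ⧸ Q)) |> fun _ =>
    (Ideal.Quotient.mk Q).domain_nontrivial
  have h1 : Module.finrank L (L ⊗[C] Ω[C⁄κ]) = 1 := by
    rw [Module.finrank_baseChange]
    exact Module.finrank_eq_of_rank_eq (Algebra.IsStandardSmoothOfRelativeDimension.rank_kaehlerDifferential 1)
  rw [Module.finrank_zero_of_subsingleton] at h1
  omega

end Groth.Agent.RelDiv
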