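import Mathlib

/-!
# Invariants of a generically split finite locally free extension
-/

set_option autoImplicit false

noncomputable section

universe u

open TensorProduct

namespace Groth.Agent.RelDiv

variable {B R : Type u} [CommRing B] [CommRing R] [Algebra B R] {G : Type u} [Fintype G]
  (a : G → (R →ₐ[B] R))

/-- `x ⊗ y ↦ (x * σ y)_σ`. -/
def splitMap : R ⊗[B] R →ₐ[R] (G → R) :=
  Algebra.TensorProduct.lift (Algebra.ofId R (G → R)) (Pi.algHom B (fun _ : G => R) a)
    (fun _ _ => mul_comm _ _)

theorem splitMap_tmul (x y : R) (g : G) : splitMap a (x ⊗ₜ y) g = x * a g y := by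
  simp [splitMap, Algebra.ofId_apply]

variable [Module.Finite B R] [Module.Projective B R]

theorem exists_smul_eq_zero_of_splitMap_eq_zero
    (hrank : ∀ q : PrimeSpectrum B, Module.rankAtStalk (R := B) R q = Fintype.card G)
    (p : PrimeSpectrum R)
    (hdist : Function.Injective fun g : G => (algebraMap R p.asIdeal.ResidueField).comp (a g).toRingHom)
    {δ : R ⊗[B] R} (hδ : splitMap a δ = 0) : ∃ s ∉ p.asIdeal, s • δ = 0 := by
  classical
  let Rp := Localization.AtPrime p.asIdeal
  let κ := p.asIdeal.ResidueField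
  let M := Rp ⊗[R] (R ⊗[B] R)
  let Ψ₀ : R ⊗[B] R →ₗ[R] (G → Rp) :=
    { toFun := fun x g => algebraMap R Rp (splitMap a x g)
      map_add' := fun x y => funext fun g => by simp
      map_smul' := fun r x => funext fun g => by simp [Algebra.smul_def, splitMap_tmul] }
  let Ψ : M →ₗ[Rp] (G → Rp) := Ψ₀.liftBaseChange Rp
  let red : (G → Rp) → (G → κ) := fun w g => algebraMap Rp κ (w g)
  -- the reductions of the images span
  let T : Submodule κ (G → κ) :=
    { carrier := {w | ∃ x : M, red (Ψ x) = w}
      zero_mem' := ⟨0, funext fun g => by simp [red]⟩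
      add_mem' := by
        rintro _ _ ⟨x, rfl⟩ ⟨y, rfl⟩
        exact ⟨x + y, funext fun g => by simp [red]⟩
      smul_mem' := by
        rintro c _ ⟨x, rfl⟩
        obtain ⟨c', hc⟩ := Ideal.Quotient.mk_surjective c
        refine ⟨c' • x, funext fun g => ?_⟩
        simp only [red, map_smul, Pi.smul_apply, smul_eq_mul, map_mul]
        congr 1 }
  have hT : T = ⊤ := by
    by_contra hne
    obtain ⟨φ, hφ, hle⟩ := Submodule.exists_le_ker_of_lt_top T (lt_top_iff_ne_top.mpr hne)
    let c : G → κ := fun g => φ (Pi.single g 1)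
    have hφw : ∀ w : G → κ, φ w = ∑ g, w g * c g := fun w => by
      conv_lhs => rw [pi_eq_sum_univ' w]
      simp [c, map_sum]
    let χ : G → (R →* κ) := fun g => ((algebraMap R κ).comp (a g).toRingHom).toMonoidHom
    have hχ : Function.Injective χ := fun g h e => hdist (RingHom.ext fun y => congrFun (congrArg DFunLike.coe e) y)
    have hli := (linearIndependent_monoidHom R κ).comp χ hχ
    have hsum : ∑ g, c g • ((χ g : R →* κ) : R → κ) = 0 := funext fun y => by
      have hm : (fun g => algebraMap R κ (a g y)) ∈ T := ⟨1 ⊗ₜ ((1 : R) ⊗ₜ y), funext fun g => by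
        show algebraMap Rp κ (Ψ (1 ⊗ₜ ((1 : R) ⊗ₜ y)) g) = _
        rw [LinearMap.liftBaseChange_tmul, one_smul]
        show algebraMap Rp κ (algebraMap R Rp (splitMap a ((1 : R) ⊗ₜ y) g)) = _
        rw [splitMap_tmul, one_mul, ← IsScalarTower.algebraMap_apply]⟩
      have := hle hm
      rw [LinearMap.mem_ker, hφw] at this
      rw [Finset.sum_apply, Pi.zero_apply, ← this]
      exact Finset.sum_congr rfl fun g _ => mul_comm _ _
    refine hφ (LinearMap.ext fun w => ?_)
    rw [hφw, LinearMap.zero_apply]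
    exact Finset.sum_eq_zero fun g _ => by rw [Fintype.linearIndependent_iff.mp hli c hsum g, mul_zero]
  -- lift the standard basis
  have hlift : ∀ h : G, ∃ x : M, red (Ψ x) = Pi.single h 1 := fun h =>
    (hT ▸ Submodule.mem_top : Pi.single h 1 ∈ T)
  choose x hx using hlift
  let A : Matrix G G Rp := Matrix.of fun g h => Ψ (x h) g
  have hdet : IsUnit A.det := by
    by_contra hnu
    have h0 : algebraMap Rp κ A.det = 0 :=
      Ideal.Quotient.eq_zero_iff_mem.mpr ((IsLocalRing.mem_maximalIdeal _).mpr hnu)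
    have h1 : A.map (algebraMap Rp κ) = 1 := by
      ext g h
      have := congrFun (hx h) g
      simp only [red] at this
      show algebraMap Rp κ (Ψ (x h) g) = (1 : Matrix G G κ) g h
      rw [this, Matrix.one_apply, Pi.single_apply]
    rw [RingHom.map_det, RingHom.mapMatrix_apply, h1, Matrix.det_one] at h0
    exact one_ne_zero h0
  have hΨ : Function.Surjective Ψ := fun w => by
    refine ⟨∑ h, (A⁻¹.mulVec w) h • x h, funext fun g => ?_⟩
    rw [map_sum, Finset.sum_apply]
    simp only [map_smul, Pi.smul_apply, smul_eq_mul]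
    have := congrFun (Matrix.mulVec_mulVec w A A⁻¹) g
    rw [Matrix.mul_nonsing_inv A hdet, Matrix.one_mulVec] at this
    rw [← this]
    exact Finset.sum_congr rfl fun h _ => mul_comm _ _
  have hfin : Module.finrank Rp M = Fintype.card G := by
    rw [← Module.rankAtStalk_eq_finrank_tensorProduct, Module.rankAtStalk_baseChange, hrank]
  haveI : Module.Free Rp M := Module.free_of_flat_of_isLocalRing
  let e : (G → Rp) ≃ₗ[Rp] M := LinearEquiv.ofFinrankEq _ _ (by rw [hfin, Module.finrank_pi])
  have hinj : Function.Injective Ψ := by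
    have hb := OrzechProperty.bijective_of_surjective_endomorphism (e.toLinearMap ∘ₗ Ψ) (e.surjective.comp hΨ)
    exact fun x y h => hb.injective (congrArg e h)
  have h1 : Ψ (1 ⊗ₜ δ) = 0 := funext fun g => by
    rw [LinearMap.liftBaseChange_tmul, one_smul]
    show algebraMap R Rp (splitMap a δ g) = 0
    rw [hδ, Pi.zero_apply, map_zero]
  obtain ⟨s, hs⟩ := (IsLocalizedModule.eq_zero_iff p.asIdeal.primeCompl (TensorProduct.mk R Rp (R ⊗[B] R) 1)).mp
    (hinj (h1.trans (map_zero Ψ).symm))
  exact ⟨s, s.2, hs⟩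

/-- Invariants are constants if the extension is split outside a negligible set. -/
theorem mem_range_of_invariant [Module.FaithfullyFlat B R]
    (hrank : ∀ q : PrimeSpectrum B, Module.rankAtStalk (R := B) R q = Fintype.card G)
    (good : Set (PrimeSpectrum R))
    (hgood : ∀ r : R, (∀ p ∈ good, ∃ s ∉ p.asIdeal, s * r = 0) → r = 0)
    (hdist : ∀ p ∈ good,
      Function.Injective fun g : G => (algebraMap R p.asIdeal.ResidueField).comp (a g).toRingHom)
    (e : R) (he : ∀ g, a g e = e) : e ∈ Set.range (algebraMap B R) := by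
  let δ : R ⊗[B] R := 1 ⊗ₜ e - e ⊗ₜ 1
  have hδ : splitMap a δ = 0 := funext fun g => by
    simp only [δ, map_sub, Pi.sub_apply, splitMap_tmul, he, map_one, one_mul, mul_one, sub_self, Pi.zero_apply]
  have h0 : δ = 0 := (Module.forall_dual_apply_eq_zero_iff R δ).mp fun φ => hgood _ fun p hp => by
    obtain ⟨s, hs, hsδ⟩ := exists_smul_eq_zero_of_splitMap_eq_zero a hrank p (hdist p hp) hδ
    exact ⟨s, hs, by rw [← smul_eq_mul, ← map_smul, hsδ, map_zero]⟩
  let W := LinearMap.range (Algebra.linearMap B R)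
  suffices W.mkQ e = 0 by
    rw [Submodule.mkQ_apply, Submodule.Quotient.mk_eq_zero] at this
    exact this
  apply Module.FaithfullyFlat.tensorProduct_mk_injective (A := B) (B := R) (R ⧸ W)
  show (1 : R) ⊗ₜ[B] W.mkQ e = (1 : R) ⊗ₜ[B] (0 : R ⧸ W)
  rw [tmul_zero]
  have h1 : W.mkQ (1 : R) = 0 := by
    rw [Submodule.mkQ_apply, Submodule.Quotient.mk_eq_zero]
    exact ⟨1, by simp⟩
  have := congrArg (W.mkQ.lTensor R) h0
  simpa [δ, h1] using this

end Groth.Agent.RelDiv

end
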