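import Groth.Agent.RelDiv.Diagonals
import Groth.Agent.RelDiv.SplitInv
import Groth.Agent.SGA1Quot.Basic

/-!
# The Hilbert scheme of points of a curve is its symmetric power
-/

set_option autoImplicit false

noncomputable section

universe u

open CategoryTheory CategoryTheory.Limits AlgebraicGeometry SymProd
open Groth.Agent.IdealSh.Comap

namespace Groth.Agent.RelDiv

variable {X S : Scheme.{u}} (f : X ⟶ S) [SmoothOfRelativeDimension 1 f] [IsSeparated f]

/-- A permutation over the base. -/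
abbrev permOver (n : ℕ) (σ : Equiv.Perm (Fin n)) : pw f n ⟶ pw f n :=
  Over.homMk (permHom f n σ) (permHom_base f n σ)

theorem pull_permOver_powDiv (n : ℕ) (σ : Equiv.Perm (Fin n)) :
    _root_.HilbD.pull f (permOver f n σ) (powDiv f n) = powDiv f n := by
  rw [powDiv, pull_prod_secGraph]
  refine Fintype.prod_equiv σ.symm _ _ fun i => ?_
  congr 1
  exact permHom_π f n σ i

variable {n : ℕ} {H : Over S} {Z : _root_.HilbD.Obj f n H}

theorem classify_inv (hZ : _root_.HilbD.IsUniversal f n H Z) (c : pw f n ⟶ H)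
    (hc : _root_.HilbD.pull f c Z.1 = powDiv f n) (σ : Equiv.Perm (Fin n)) :
    permHom f n σ ≫ c.left = c.left := by
  obtain ⟨_, -, hu⟩ := hZ (pw f n) (powObj f n)
  have : permOver f n σ ≫ c = c := (hu _ (by
    show _root_.HilbD.pull f (permOver f n σ ≫ c) Z.1 = powDiv f n
    rw [HilbD.pull_comp, hc, pull_permOver_powDiv])).trans (hu _ hc).symm
  exact congrArg CommaMorphism.left this

theorem isQuot_classify (hrep : ∀ e : ℕ, _root_.HilbD.Representable f e)
    (hZ : _root_.HilbD.IsUniversal f n H Z) (c : pw f n ⟶ H) (hc : _root_.HilbD.pull f c Z.1 = powDiv f n) :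
    SGA1.IsQuot (permActU f n) c.left := by
  classical
  obtain ⟨⟨e1, e2, e3⟩, e4⟩ := isFinLocFreeOfDeg_classify f hrep n H Z hZ c hc
  haveI := e1; haveI := e2; haveI := e3
  let ρ := permActU f n
  have hinv : ∀ g, (ρ g).hom ≫ c.left = c.left := fun g => classify_inv f hZ c hc g.down
  haveI : Surjective c.left := (Scheme.Hom.one_le_finrank_iff_surjective c.left).mp fun y => by
    rw [e4]; exact Nat.factorial_pos n
  refine SGA1Quot.isQuot_of_affine_cover (hinv := hinv) fun y => ?_
  obtain ⟨V, hyV, -⟩ := exists_affine_le y ⊤ trivial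
  refine ⟨V.1, V.2, hyV, ?_⟩
  let W : (fibPow f n).Opens := c.left ⁻¹ᵁ V.1
  have hW : IsAffineOpen W := V.2.preimage c.left
  letI : Algebra Γ(H.left, V.1) Γ(fibPow f n, W) := (c.left.app V.1).hom.toAlgebra
  haveI : Module.Finite Γ(H.left, V.1) Γ(fibPow f n, W) := c.left.finite_app V.1 V.2
  have hfl := c.left.flat_appLE V.2 hW (e := le_rfl)
  rw [← Scheme.Hom.app_eq_appLE] at hfl
  haveI : Module.Flat Γ(H.left, V.1) Γ(fibPow f n, W) := hfl
  have hfp := HasRingHomProperty.appLE (P := @LocallyOfFinitePresentation) c.left inferInstance V ⟨W, hW⟩ le_rfl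
  rw [← Scheme.Hom.app_eq_appLE] at hfp
  haveI : Algebra.FinitePresentation Γ(H.left, V.1) Γ(fibPow f n, W) := hfp
  haveI : Module.FinitePresentation Γ(H.left, V.1) Γ(fibPow f n, W) := .of_finite_of_finitePresentation _ _
  haveI : Module.Projective Γ(H.left, V.1) Γ(fibPow f n, W) := Module.Flat.projective_of_finitePresentation
  haveI : Module.FaithfullyFlat Γ(H.left, V.1) Γ(fibPow f n, W) := by
    refine Module.FaithfullyFlat.of_comap_surjective fun P => ?_
    obtain ⟨w, hw⟩ := c.left.surjective (V.2.fromSpec P)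
    have hwW : w ∈ W := by
      show c.left w ∈ V.1
      rw [hw]
      have : V.2.fromSpec P ∈ Set.range V.2.fromSpec := ⟨P, rfl⟩
      rwa [V.2.range_fromSpec] at this
    refine ⟨hW.primeIdealOf ⟨w, hwW⟩, V.2.fromSpec.isOpenEmbedding.injective ?_⟩
    have h1 := hW.fromSpec_primeIdealOf ⟨w, hwW⟩
    show (Spec.map (c.left.app V.1) ≫ V.2.fromSpec) (hW.primeIdealOf ⟨w, hwW⟩) = _
    rw [Scheme.Hom.app_eq_appLE]
    refine (congrArg (fun m : Spec Γ(fibPow f n, W) ⟶ H.left => m (hW.primeIdealOf ⟨w, hwW⟩))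
      (IsAffineOpen.SpecMap_appLE_fromSpec c.left V.2 hW le_rfl)).trans ?_
    rw [Scheme.Hom.comp_apply, h1]
    exact hw
  let a : ULift.{u} (Equiv.Perm (Fin n)) → (Γ(fibPow f n, W) →ₐ[Γ(H.left, V.1)] Γ(fibPow f n, W)) := fun g =>
    { SGA1Quot.act ρ c.left hinv g V.1 with
      commutes' := fun b => SGA1Quot.act_comp_app ρ c.left hinv g V.1 b }
  have hmem : ∀ (p : PrimeSpectrum Γ(fibPow f n, W)) (s : Γ(fibPow f n, W)),
      hW.fromSpec p ∈ (fibPow f n).basicOpen s ↔ s ∉ p.asIdeal := fun p s => by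
    change p ∈ hW.fromSpec ⁻¹ᵁ (fibPow f n).basicOpen s ↔ s ∉ p.asIdeal
    rw [hW.fromSpec_preimage_basicOpen]; rfl
  refine ⟨RingHom.injective_iff_ker_eq_bot _ |>.mpr ?_, fun s hs => ?_⟩
  · rw [← RingHom.injective_iff_ker_eq_bot]
    exact FaithfulSMul.algebraMap_injective Γ(H.left, V.1) Γ(fibPow f n, W)
  refine mem_range_of_invariant a (fun q => ?_) {p | hW.fromSpec p ∉ (bigDiag f n).support}
    (fun r hr => ?_) (fun p hp => ?_) s hs
  · refine (finrank_fromSpec_eq c.left V.2 q).symm.trans ?_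
    rw [e4, Fintype.card_ulift, Fintype.card_perm, Fintype.card_fin]
  · refine eq_zero_of_forall_notMem (isEffCartierIdeal_bigDiag f n) r fun z hzW hz => ?_
    obtain ⟨s', hs', hsr⟩ := hr (hW.primeIdealOf ⟨z, hzW⟩) (by
      show hW.fromSpec _ ∉ _
      rw [hW.fromSpec_primeIdealOf]; exact hz)
    refine ⟨s', ?_, hsr⟩
    have := (hmem (hW.primeIdealOf ⟨z, hzW⟩) s').mpr hs'
    rwa [hW.fromSpec_primeIdealOf] at this
  · intro g g' hgg
    let K := p.asIdeal.ResidueField
    let ev : Γ(fibPow f n, W) ⟶ CommRingCat.of K := CommRingCat.ofHom (algebraMap _ K)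
    let ξ : Spec (CommRingCat.of K) ⟶ fibPow f n := Spec.map ev ≫ hW.fromSpec
    have hval : ∀ h : ULift.{u} (Equiv.Perm (Fin n)),
        Spec.map ((ρ h).hom.appLE W W (SGA1.preimage_le_of_inv ρ c.left hinv h V.1) ≫ ev) ≫ hW.fromSpec =
          ξ ≫ permHom f n h.down := by
      intro h
      rw [Spec.map_comp, Category.assoc, IsAffineOpen.SpecMap_appLE_fromSpec _ hW hW, Category.assoc]
      rfl
    have hξ : ξ ≫ permHom f n g.down = ξ ≫ permHom f n g'.down := by
      rw [← hval, ← hval]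
      congr 2
      exact CommRingCat.hom_ext hgg
    let pt : Spec (CommRingCat.of K) := IsLocalRing.closedPoint K
    have hpt : ξ pt = hW.fromSpec p := by
      rw [Scheme.Hom.comp_apply]
      congr 1
      refine PrimeSpectrum.ext ?_
      ext x
      show algebraMap _ K x ∈ IsLocalRing.maximalIdeal K ↔ x ∈ p.asIdeal
      rw [IsLocalRing.maximalIdeal_eq_bot, Ideal.mem_bot, Ideal.algebraMap_residueField_eq_zero]
    refine ULift.ext _ _ (Equiv.symm_bijective.injective (Equiv.ext fun i => ?_))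
    refine injective_prj_of_notMem f n ξ pt (by rw [hpt]; exact hp) ?_
    show ξ ≫ prj f n (g.down.symm i) = ξ ≫ prj f n (g'.down.symm i)
    have := congrArg (fun m => m ≫ prj f n i) hξ
    simpa only [Category.assoc, permHom_π] using this

end Groth.Agent.RelDiv

end
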