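import Groth.Agent.RelDiv.Regular

/-!
# Local equations of relative divisors on smooth algebras of relative dimension one
-/

set_option autoImplicit false

universe u

open TensorProduct IsLocalRing AlgebraicGeometry

namespace Groth.Agent.RelDiv

variable (A : Type u) {B : Type u} [CommRing A] [CommRing B] [Algebra A B]

/-- `J ∩ 𝔭B = 𝔭J` when `B ⧸ J` is flat over the base. -/
theorem mem_map_mul_of_flat (p : Ideal A) (J : Ideal B) [Module.Flat A (B ⧸ J)] {z : B} (hzJ : z ∈ J)
    (hzp : z ∈ p.map (algebraMap A B)) : z ∈ p.map (algebraMap A B) * J := by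
  classical
  obtain ⟨N, n, c, hc⟩ := Submodule.mem_span_set'.mp hzp
  choose a ha using fun i => (c i).2
  obtain ⟨k, b, y, hy, hab⟩ := Module.Flat.isTrivialRelation_of_sum_smul_eq_zero
    (f := fun i => a i) (x := fun i => Ideal.Quotient.mk J (n i)) (by
      rw [← map_zero (Ideal.Quotient.mk J)]
      simp only [Algebra.smul_def, Ideal.Quotient.mk_algebraMap]
      rw [show (Ideal.Quotient.mk J) 0 = Ideal.Quotient.mk J z by
        rw [map_zero, eq_comm, Ideal.Quotient.eq_zero_iff_mem]; exact hzJ]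
      rw [← hc, map_sum]
      refine Finset.sum_congr rfl fun i _ => ?_
      rw [smul_eq_mul, map_mul, ← (ha i).2, Ideal.Quotient.mk_algebraMap, mul_comm])
  choose Y hY using fun j => Ideal.Quotient.mk_surjective (y j)
  have he : ∀ i, n i - ∑ j, algebraMap A B (b i j) * Y j ∈ J := fun i => by
    rw [← Ideal.Quotient.eq_zero_iff_mem, map_sub, map_sum, sub_eq_zero]
    refine (hy i).trans ?_
    simp [Algebra.smul_def, hY]
  have hz : z = ∑ i, algebraMap A B (a i) * (n i - ∑ j, algebraMap A B (b i j) * Y j) := by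
    simp only [mul_sub, Finset.sum_sub_distrib, Finset.mul_sum]
    rw [Finset.sum_comm, show (∑ j, ∑ i, algebraMap A B (a i) * (algebraMap A B (b i j) * Y j)) = 0 from
      Finset.sum_eq_zero fun j _ => by
        simp only [← mul_assoc, ← map_mul, ← Finset.sum_mul, ← map_sum]
        rw [hab j, map_zero, zero_mul], sub_zero, ← hc]
    refine Finset.sum_congr rfl fun i _ => ?_
    rw [smul_eq_mul, (ha i).2, mul_comm]
  rw [hz]
  exact Ideal.sum_mem _ fun i _ => Ideal.mul_mem_mul (Ideal.mem_map_of_mem _ (ha i).1) (he i)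

variable [Algebra.IsStandardSmoothOfRelativeDimension 1 A B]

/-- A quasi-finite flat closed subscheme has a local equation at each of its points. -/
theorem exists_local_equation (J : Ideal B) (hfg : J.FG) [Module.Flat A (B ⧸ J)]
    [Algebra.QuasiFinite A (B ⧸ J)] (q : Ideal B) [q.IsPrime] :
    ∃ t ∈ J, ∃ g ∉ q, ∀ x ∈ J, g * x ∈ Ideal.span {t} := by
  classical
  haveI : Algebra.IsStandardSmooth A B := Algebra.IsStandardSmoothOfRelativeDimension.isStandardSmooth 1
  by_cases hJq : J ≤ q
  swap
  · obtain ⟨g, hgJ, hgq⟩ := SetLike.not_le_iff_exists.mp hJq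
    exact ⟨g, hgJ, g, hgq, fun x _ => Ideal.mul_mem_right _ _ (Ideal.mem_span_singleton_self g)⟩
  haveI := isDomain_fibLocRing A q
  haveI := isPrincipalIdealRing_fibLocRing A q
  let Bq := Localization.AtPrime q
  let F := EGA4.FibLocRing A B q
  let Jq := J.map (algebraMap B Bq)
  let π : Bq →+* F := Ideal.Quotient.mk _
  obtain ⟨x, hx⟩ := IsPrincipalIdealRing.principal (Jq.map π)
  obtain ⟨y, hy, hxy⟩ := (Ideal.mem_map_iff_of_surjective π Ideal.Quotient.mk_surjective).mp
    (hx ▸ Submodule.mem_span_singleton_self x)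
  obtain ⟨⟨⟨t, ht⟩, s⟩, hts⟩ := (IsLocalization.mem_map_algebraMap_iff q.primeCompl Bq).mp hy
  refine ⟨t, ht, ?_⟩
  let t' := algebraMap B Bq t
  have hu : IsUnit (π (algebraMap B Bq (s : B))) := (IsLocalization.map_units Bq s).map π
  have hgen : Jq.map π = Ideal.span {π t'} := by
    rw [hx, show π t' = x * π (algebraMap B Bq (s : B)) by rw [← hxy, ← map_mul, hts],
      Ideal.span_singleton_mul_right_unit hu]
  have hle : Jq ≤ Ideal.span {t'} ⊔ maximalIdeal Bq • Jq := by
    intro w hw
    obtain ⟨c, hc⟩ := Ideal.mem_span_singleton'.mp (hgen ▸ Ideal.mem_map_of_mem π hw)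
    obtain ⟨c, rfl⟩ := Ideal.Quotient.mk_surjective c
    rw [← map_mul] at hc
    have h1 : w - c * t' ∈ (q.comap (algebraMap A B)).map (algebraMap A Bq) := Ideal.Quotient.eq.mp hc.symm
    have h2 : w - c * t' ∈ Jq := Ideal.sub_mem _ hw (Ideal.mul_mem_left _ _ (Ideal.mem_map_of_mem _ ht))
    haveI : Module.Flat A (Bq ⧸ Jq) := by
      haveI : IsScalarTower A (B ⧸ J) (Bq ⧸ Jq) := IsScalarTower.of_algebraMap_eq fun a => rfl
      haveI : Module.Flat (B ⧸ J) (Bq ⧸ Jq) := IsLocalization.flat (Bq ⧸ Jq) (Algebra.algebraMapSubmonoid (B ⧸ J) q.primeCompl)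
      exact Module.Flat.trans A (B ⧸ J) _
    rw [show w = c * t' + (w - c * t') by ring]
    refine Submodule.add_mem_sup (Ideal.mul_mem_left _ _ (Ideal.mem_span_singleton_self _)) ?_
    refine Ideal.mul_mono_left ?_ (mem_map_mul_of_flat A _ Jq h2 h1)
    rw [IsScalarTower.algebraMap_eq A B Bq, ← Ideal.map_map, ← Localization.AtPrime.map_eq_maximalIdeal]
    exact Ideal.map_mono (Ideal.map_comap_le)
  have hle' : Jq ≤ Ideal.span {t'} :=
    Submodule.le_of_le_smul_of_le_jacobson_bot (hfg.map _)
      (IsLocalRing.maximalIdeal_le_jacobson _) hle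
  obtain ⟨T, hT⟩ := hfg
  have hloc : ∀ y : T, ∃ g : B, g ∉ q ∧ g * (y : B) ∈ Ideal.span {t} := by
    rintro ⟨y, hyT⟩
    obtain ⟨c, hc⟩ := Ideal.mem_span_singleton'.mp (hle' (Ideal.mem_map_of_mem _ (hT ▸ Ideal.subset_span hyT : y ∈ J)))
    obtain ⟨b, r, rfl⟩ := IsLocalization.exists_mk'_eq q.primeCompl c
    obtain ⟨e, he⟩ : ∃ e : q.primeCompl, (e : B) * (b * t) = e * (r * y) := by
      refine (IsLocalization.eq_iff_exists q.primeCompl Bq).mp ?_
      rw [map_mul, map_mul, ← hc, ← mul_assoc, IsLocalization.mk'_spec']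
    refine ⟨e * r, (e * r).2, Ideal.mem_span_singleton'.mpr ⟨e * b, ?_⟩⟩
    rw [mul_assoc, he, mul_assoc]
  choose g hgq hg using hloc
  refine ⟨∏ y, g y, fun h => ?_, fun x hx => ?_⟩
  · obtain ⟨y, -, hy⟩ := Ideal.IsPrime.prod_mem_iff.mp h
    exact hgq y hy
  · rw [← hT] at hx
    induction hx using Submodule.span_induction with
    | mem y hy =>
      obtain ⟨c, hc⟩ := Finset.dvd_prod_of_mem g (Finset.mem_univ ⟨y, hy⟩)
      rw [hc, mul_comm (g _) c, mul_assoc]
      exact Ideal.mul_mem_left _ c (hg ⟨y, hy⟩)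
    | zero => rw [mul_zero]; exact Ideal.zero_mem _
    | add a b _ _ ha hb => rw [mul_add]; exact Ideal.add_mem _ ha hb
    | smul a b _ hb => rw [smul_eq_mul, mul_left_comm]; exact Ideal.mul_mem_left _ a hb

/-- The equation is regular after inverting the denominator. -/
theorem exists_regular_equation (J : Ideal B) (hfg : J.FG) [Module.Flat A (B ⧸ J)]
    [Algebra.QuasiFinite A (B ⧸ J)] (q : Ideal B) [q.IsPrime] :
    ∃ g ∉ q, ∃ t : Localization.Away g, t ∈ nonZeroDivisors (Localization.Away g) ∧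
      J.map (algebraMap B (Localization.Away g)) = Ideal.span {t} := by
  haveI : Algebra.IsStandardSmooth A B := Algebra.IsStandardSmoothOfRelativeDimension.isStandardSmooth 1
  obtain ⟨t, ht, g, hgq, hg⟩ := exists_local_equation A J hfg q
  refine ⟨g, hgq, algebraMap B _ t, ?_, ?_⟩
  · rw [mem_nonZeroDivisors_iff_right]
    intro z hz
    obtain ⟨x, ⟨_, n, rfl⟩, rfl⟩ := IsLocalization.exists_mk'_eq (Submonoid.powers g) z
    rw [← IsLocalization.mk'_one (M := Submonoid.powers g), ← IsLocalization.mk'_mul,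
      IsLocalization.mk'_eq_zero_iff] at hz
    obtain ⟨⟨_, m, rfl⟩, hm⟩ := hz
    rw [IsLocalization.mk'_eq_zero_iff]
    by_cases hrad : g ∈ ((Ideal.span {x}).annihilator).radical
    · obtain ⟨k, hk⟩ := hrad
      exact ⟨⟨g ^ k, k, rfl⟩, Submodule.mem_annihilator.mp hk x (Ideal.mem_span_singleton_self x)⟩
    · exfalso
      rw [Ideal.radical_eq_sInf, Submodule.mem_sInf] at hrad
      push_neg at hrad
      obtain ⟨q', ⟨hAnn, hq'⟩, hgq'⟩ := hrad
      change Ideal B at q'
      haveI : q'.IsPrime := hq'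
      have hreg : IsSMulRegular (Localization.AtPrime q') (algebraMap B (Localization.AtPrime q') t) := by
        by_cases htq : t ∈ q'
        · refine isSMulRegular_of_ne_zero A q' t fun h0 => ?_
          obtain ⟨s, hsJ, hs⟩ := exists_notMem_of_quasiFinite A J q'
          obtain ⟨c, hc⟩ := Ideal.mem_span_singleton'.mp (hg s hsJ)
          have hF := congrArg (algebraMap B (EGA4.FibLocRing A B q')) hc
          rw [map_mul, map_mul, h0, mul_zero] at hF
          have hgu : IsUnit (algebraMap B (EGA4.FibLocRing A B q') g) :=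
            (IsLocalization.map_units (Localization.AtPrime q') (⟨g, hgq'⟩ : q'.primeCompl)).map (Ideal.Quotient.mk _)
          exact hs (hgu.mul_right_eq_zero.mp hF.symm)
        · exact (IsLocalization.map_units (Localization.AtPrime q') (⟨t, htq⟩ : q'.primeCompl)).isSMulRegular _
      have h0 : algebraMap B (Localization.AtPrime q') (g ^ m * x) = 0 := by
        apply hreg
        simp only [smul_eq_mul, mul_zero]
        rw [← map_mul, show t * (g ^ m * x) = g ^ m * (x * t) by ring, hm, map_zero]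
      obtain ⟨⟨s, hs⟩, hsx⟩ := (IsLocalization.map_eq_zero_iff q'.primeCompl _ _).mp h0
      refine (Ideal.IsPrime.mul_notMem hq' hs (fun h => hgq' (hq'.mem_of_pow_mem m h))) (hAnn ?_)
      refine (Submodule.mem_annihilator_span_singleton x _).mpr ?_
      rw [smul_eq_mul, mul_assoc]
      exact hsx
  · refine le_antisymm (Ideal.map_le_iff_le_comap.mpr fun x hx => ?_) ?_
    · rw [Ideal.mem_comap]
      refine (Ideal.unit_mul_mem_iff_mem _ (IsLocalization.Away.algebraMap_isUnit g)).mp ?_
      rw [← map_mul, ← Set.image_singleton, ← Ideal.map_span]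
      exact Ideal.mem_map_of_mem _ (hg x hx)
    · rw [Ideal.span_le, Set.singleton_subset_iff]
      exact Ideal.mem_map_of_mem _ ht

/-- A divisor defined by a regular equation and flat over the base is quasi-finite over it. -/
theorem quasiFinite_of_regular (t : B) (ht : t ∈ nonZeroDivisors B) [Module.Flat A (B ⧸ Ideal.span {t})] :
    Algebra.QuasiFinite A (B ⧸ Ideal.span {t}) := by
  haveI : Algebra.IsStandardSmooth A B := Algebra.IsStandardSmoothOfRelativeDimension.isStandardSmooth 1
  refine ⟨fun P _ => ?_⟩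
  let κ := P.ResidueField
  let C := P.Fiber B
  haveI : Algebra.IsStandardSmoothOfRelativeDimension 1 κ C :=
    Algebra.IsStandardSmoothOfRelativeDimension.baseChange 1 κ
  haveI : Module.Flat A (QuotSMulTop t B) :=
    Module.Flat.of_linearEquiv ((Submodule.quotEquivOfEq _ (Ideal.span {t}) (by
      rw [← Submodule.ideal_span_singleton_smul, smul_eq_mul, Ideal.mul_top])).restrictScalars A)
  have hreg : IsSMulRegular B t := ((isRegular_iff_mem_nonZeroDivisors.mpr ht).left)
  have hinj := EGA41Lib.lTensor_lsmul_injective (A := A) (M := B) t hreg κ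
  let u : C := 1 ⊗ₜ t
  have hu : u ∈ nonZeroDivisors C := by
    rw [mem_nonZeroDivisors_iff_left]
    intro z hz
    refine hinj (Eq.trans ?_ (map_zero _).symm)
    rw [← hz]
    clear hz
    induction z using TensorProduct.induction_on with
    | zero => simp
    | tmul a b =>
      show a ⊗ₜ[A] (t * b) = (1 ⊗ₜ[A] t) * (a ⊗ₜ[A] b)
      rw [Algebra.TensorProduct.tmul_mul_tmul, one_mul]
    | add x y hx hy => simp only [map_add, mul_add, hx, hy]
  let π : C →ₐ[κ] P.Fiber (B ⧸ Ideal.span {t}) :=
    Algebra.TensorProduct.map (AlgHom.id κ κ) (Ideal.Quotient.mkₐ A _)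
  have hπ : Function.Surjective π := fun z => by
    induction z using TensorProduct.induction_on with
    | zero => exact ⟨0, map_zero π⟩
    | tmul a b =>
      obtain ⟨b, rfl⟩ := Ideal.Quotient.mk_surjective b
      exact ⟨a ⊗ₜ b, Algebra.TensorProduct.map_tmul _ _ _ _⟩
    | add x y hx hy =>
      obtain ⟨x, rfl⟩ := hx
      obtain ⟨y, rfl⟩ := hy
      exact ⟨x + y, map_add π x y⟩
  have hu' : π u = 0 :=
    (Algebra.TensorProduct.map_tmul _ _ _ _).trans ((congrArg ((1 : κ) ⊗ₜ[A] ·)
      (Ideal.Quotient.eq_zero_iff_mem.mpr (Ideal.mem_span_singleton_self t))).trans (TensorProduct.tmul_zero _ _))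
  have hu0 : Ideal.span {u} ≤ RingHom.ker π.toRingHom :=
    Ideal.span_le.mpr (Set.singleton_subset_iff.mpr hu')
  haveI : Module.Finite κ (C ⧸ Ideal.span {u}) := by
    refine (Module.finite_iff_krullDimLE_zero κ (C ⧸ Ideal.span {u})).mpr (Ring.krullDimLE_iff.mpr ?_)
    have h1 := (ringKrullDim_quotient_succ_le_of_nonZeroDivisor hu).trans
      (CAlg76.FibreDim.ringKrullDim_le_of_smooth (K := κ) (C := C) (d := 1) (by
        rw [HasRingHomProperty.Spec_iff (P := @AlgebraicGeometry.SmoothOfRelativeDimension 1)]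
        refine RingHom.locally_of RingHom.isStandardSmoothOfRelativeDimension_respectsIso _ ?_
        exact (RingHom.isStandardSmoothOfRelativeDimension_algebraMap (n := 1)).mpr inferInstance))
    revert h1
    cases ringKrullDim (C ⧸ Ideal.span {u}) with
    | bot => simp
    | coe a => intro h1; norm_cast at h1 ⊢; cases a with
      | top => simp at h1
      | coe n => norm_cast at h1 ⊢; omega
  exact Module.Finite.of_surjective (Ideal.Quotient.liftₐ _ π hu0).toLinearMap
    (Ideal.Quotient.lift_surjective_of_surjective _ hu0 hπ)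

end Groth.Agent.RelDiv
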