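import Groth.Agent.RelDiv.Cancel

/-!
# Relative divisors split into sections after a finite flat base change
-/

set_option autoImplicit false

noncomputable section

universe u

open CategoryTheory CategoryTheory.Limits AlgebraicGeometry
open Groth.Agent.IdealSh.Comap

namespace Groth.Agent.RelDiv

variable {X S : Scheme.{u}} (f : X ⟶ S) [SmoothOfRelativeDimension 1 f] [IsSeparated f]

instance smooth_XTproj (T : Over S) : SmoothOfRelativeDimension 1 (PicF.XTproj f T) :=
  haveI := smoothOfRelativeDimension_isStableUnderBaseChange (n := 1)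
  MorphismProperty.pullback_snd (P := @SmoothOfRelativeDimension 1) f T.hom inferInstance

section Taut

variable {T : Over S} {d : ℕ} (Z : _root_.HilbD.Obj f d T)

/-- A divisor, as a scheme over the base. -/
abbrev taut : Over S := Over.mk ((Z.1.subschemeι ≫ PicF.XTproj f T) ≫ T.hom)

/-- The projection of a divisor. -/
abbrev tautHom : taut f Z ⟶ T := Over.homMk (Z.1.subschemeι ≫ PicF.XTproj f T) rfl

/-- The tautological point of a divisor. -/
abbrev tautPt : (taut f Z).left ⟶ X := Z.1.subschemeι ≫ pullback.fst f T.hom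

omit [SmoothOfRelativeDimension 1 f] [IsSeparated f] in
theorem tautPt_comp : tautPt f Z ≫ f = (taut f Z).hom := by
  show (Z.1.subschemeι ≫ pullback.fst f T.hom) ≫ f = (Z.1.subschemeι ≫ pullback.snd f T.hom) ≫ T.hom
  rw [Category.assoc, Category.assoc, pullback.condition]

omit [SmoothOfRelativeDimension 1 f] [IsSeparated f] in
theorem graph_tautPt :
    HilbD.graph f (taut f Z) (tautPt f Z) (tautPt_comp f Z) ≫ PicF.XTmap f (tautHom f Z) = Z.1.subschemeι := by
  apply pullback.hom_ext
  · rw [Category.assoc, HilbD.XTmap_fst, pullback.lift_fst]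
  · show (HilbD.graph f (taut f Z) (tautPt f Z) (tautPt_comp f Z) ≫ PicF.XTmap f (tautHom f Z)) ≫ PicF.XTproj f T =
      Z.1.subschemeι ≫ PicF.XTproj f T
    rw [Category.assoc, HilbD.XTmap_proj, ← Category.assoc, HilbD.graph_proj, Category.id_comp]
    rfl

end Taut

/-- Pullback of a divisor to itself contains the diagonal. -/
theorem exists_peel {T : Over S} {d : ℕ} (Z : _root_.HilbD.Obj f (d + 1) T) :
    ∃ K : _root_.HilbD.Obj f d (taut f Z),
      _root_.HilbD.pull f (tautHom f Z) Z.1 = _root_.HilbD.secGraph f (taut f Z) (tautPt f Z) (tautPt_comp f Z) * K.1 := by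
  haveI := HilbD.isClosedImmersion_graph f (taut f Z) (tautPt f Z) (tautPt_comp f Z)
  have hle : _root_.HilbD.pull f (tautHom f Z) Z.1 ≤
      _root_.HilbD.secGraph f (taut f Z) (tautPt f Z) (tautPt_comp f Z) := by
    show _ ≤ (HilbD.graph f (taut f Z) (tautPt f Z) (tautPt_comp f Z)).ker
    rw [← Scheme.IdealSheafData.map_bot, Scheme.IdealSheafData.le_map_iff_comap_le, HilbD.pull_eq_comap,
      ← Scheme.IdealSheafData.comap_comp, graph_tautPt, (HilbD.le_iff_comap_subschemeι Z.1 Z.1).mp le_rfl]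
  have hs := HilbD.isFinLocFreeOfDeg_secGraph f (taut f Z) (tautPt f Z) (tautPt_comp f Z)
  obtain ⟨K, hK, e, hd⟩ :=
    exists_difference hle hs.1 (HilbD.isFinLocFreeOfDeg_pull f (d + 1) (tautHom f Z) Z.2).1
  refine ⟨⟨K, hK, fun y => ?_⟩, e⟩
  have := hd y
  rw [hs.2, (HilbD.isFinLocFreeOfDeg_pull f (d + 1) (tautHom f Z) Z.2).2] at this
  omega

theorem exists_split : ∀ (d : ℕ) (T : Over S) (Z : _root_.HilbD.Obj f d T),
    ∃ (T' : Over S) (g : T' ⟶ T), Flat g.left ∧ Surjective g.left ∧ LocallyOfFinitePresentation g.left ∧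
      ∃ (x : Fin d → (T'.left ⟶ X)) (hx : ∀ i, x i ≫ f = T'.hom),
        _root_.HilbD.pull f g Z.1 = ∏ i, _root_.HilbD.secGraph f T' (x i) (hx i) := by
  intro d
  induction d with
  | zero =>
    intro T Z
    refine ⟨T, 𝟙 T, inferInstanceAs (Flat (𝟙 T.left)), inferInstanceAs (Surjective (𝟙 T.left)),
      inferInstanceAs (LocallyOfFinitePresentation (𝟙 T.left)), Fin.elim0, fun i => i.elim0, ?_⟩
    rw [Finset.univ_eq_empty, Finset.prod_empty, Scheme.IdealSheafData.one_eq_top, HilbD.pull_id,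
      eq_top_of_finrank_zero Z.2.1 Z.2.2]
  | succ d ih =>
    intro T Z
    obtain ⟨K, hK⟩ := exists_peel f Z
    let a := tautHom f Z
    let x₀ := tautPt f Z
    have hx₀ := tautPt_comp f Z
    obtain ⟨⟨ha1', ha2', ha3'⟩, ha4⟩ := Z.2
    haveI := ha1'; haveI := ha2'; haveI := ha3'
    have ha1 : Flat a.left := ha2'
    have ha3 : LocallyOfFinitePresentation a.left := ha3'
    have ha2 : Surjective a.left := (Scheme.Hom.one_le_finrank_iff_surjective (Z.1.subschemeι ≫ PicF.XTproj f T)).mp fun y => by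
      rw [ha4]; exact Nat.le_add_left 1 d
    obtain ⟨T', g, hg1, hg2, hg3, x, hx, hxe⟩ := ih _ K
    haveI := ha1; haveI := ha2; haveI := ha3; haveI := hg1; haveI := hg2; haveI := hg3
    refine ⟨T', g ≫ a, inferInstanceAs (Flat (g.left ≫ a.left)), inferInstanceAs (Surjective (g.left ≫ a.left)),
      inferInstanceAs (LocallyOfFinitePresentation (g.left ≫ a.left)), Fin.cons (g.left ≫ x₀) x,
      Fin.cons (by rw [Fin.cons_zero, Category.assoc, hx₀, Over.w g]) (fun i => by rw [Fin.cons_succ]; exact hx i), ?_⟩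
    rw [HilbD.pull_comp, hK, HilbD.pull_eq_comap, comap_mul, ← HilbD.pull_eq_comap, ← HilbD.pull_eq_comap,
      HilbD.pull_secGraph, hxe, Fin.prod_univ_succ]
    rfl

theorem exists_split_base (d : ℕ) (I : X.IdealSheafData) (hD : Mor2.IsFinLocFreeOfDeg d (I.subschemeι ≫ f)) :
    ∃ (S' : Scheme.{u}) (b : S' ⟶ S), Flat b ∧ Surjective b ∧ LocallyOfFinitePresentation b ∧
      ∃ σ : Fin d → (S' ⟶ pullback f b), (∀ i, σ i ≫ pullback.snd f b = 𝟙 S') ∧
        (pullback.snd I.subschemeι (pullback.fst f b)).ker = ∏ i, (σ i).ker := by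
  let T₀ : Over S := Over.mk (𝟙 S)
  have hZ : Mor2.IsFinLocFreeOfDeg d ((I.comap (pullback.fst f T₀.hom)).subschemeι ≫ PicF.XTproj f T₀) := by
    have h1 : IsPullback ((I.comapIso (pullback.fst f T₀.hom)).hom ≫ pullback.snd _ _)
        (I.comap (pullback.fst f T₀.hom)).subschemeι I.subschemeι (pullback.fst f T₀.hom) := by
      refine IsPullback.of_iso_pullback ⟨?_⟩ ((I.comapIso _) ≪≫ pullbackSymmetry _ _) ?_ ?_
      · rw [Category.assoc, ← pullback.condition, Scheme.IdealSheafData.comapIso_hom_fst_assoc]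
      · simp
      · simp
    have h := h1.paste_vert (IsPullback.of_hasPullback f T₀.hom)
    obtain ⟨⟨e1, e2, e3⟩, e4⟩ := hD
    refine ⟨⟨MorphismProperty.of_isPullback (P := @IsFinite) h e1,
      MorphismProperty.of_isPullback (P := @Flat) h e2,
      MorphismProperty.of_isPullback (P := @LocallyOfFinitePresentation) h e3⟩, fun y => ?_⟩
    haveI := e1; haveI := e2
    exact (Scheme.Hom.finrank_of_isPullback _ _ _ _ h y).trans (e4 _)
  obtain ⟨T', g, g1, g2, g3, x, hx, he⟩ := exists_split f d T₀ ⟨_, hZ⟩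
  have hb : T'.hom = g.left := by rw [← Over.w g]; exact Category.comp_id _
  refine ⟨T'.left, T'.hom, by rw [hb]; exact g1, by rw [hb]; exact g2, by rw [hb]; exact g3,
    fun i => HilbD.graph f T' (x i) (hx i), fun i => HilbD.graph_proj _ _ _ _, ?_⟩
  refine Eq.trans ?_ he
  rw [HilbD.pull_eq_comap, ← Scheme.IdealSheafData.comap_comp, HilbD.XTmap_fst]
  have hsq : IsPullback (pullback.snd I.subschemeι (pullback.fst f T'.hom))
      (pullback.fst I.subschemeι (pullback.fst f T'.hom)) (pullback.fst f T'.hom) I.subschemeι :=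
    (IsPullback.of_hasPullback _ _).flip
  have := HilbD.comap_ker_of_isPullback hsq
  rw [Scheme.IdealSheafData.ker_subschemeι] at this
  exact this.symm

end Groth.Agent.RelDiv

end
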