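import Groth.Agent.RelDiv.Degree
import Groth.Agent.S1173
import Groth.Agent.RelDiv.Cancel
import Groth.Prelude.Def_SymProd

/-!
# Fibre powers of a curve over the Hilbert scheme of points
-/

set_option autoImplicit false

noncomputable section

universe u

open CategoryTheory CategoryTheory.Limits AlgebraicGeometry SymProd
open Groth.Agent.IdealSh.Comap

namespace Groth.Agent.RelDiv

variable {X S : Scheme.{u}} (f : X ⟶ S)

/-- The fibre power over the base. -/
abbrev pw (n : ℕ) : Over S := Over.mk (WidePullback.base fun _ : Fin n => f)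

/-- The projections of the fibre power. -/
abbrev prj (n : ℕ) (i : Fin n) : (pw f n).left ⟶ X := WidePullback.π (fun _ : Fin n => f) i

theorem prj_comp (n : ℕ) (i : Fin n) : prj f n i ≫ f = (pw f n).hom := WidePullback.π_arrow _ _

/-- Forgetting the last factor. -/
abbrev initMap (n : ℕ) : pw f (n + 1) ⟶ pw f n :=
  Over.homMk (WidePullback.lift (WidePullback.base fun _ : Fin (n + 1) => f)
    (fun j => prj f (n + 1) j.castSucc) fun j => prj_comp f (n + 1) j.castSucc)
    (WidePullback.lift_base _ _ _ _)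

theorem initMap_prj (n : ℕ) (j : Fin n) : (initMap f n).left ≫ prj f n j = prj f (n + 1) j.castSucc :=
  WidePullback.lift_π _ _ _ _ _

theorem isPullback_initMap (n : ℕ) :
    IsPullback (initMap f n).left (prj f (n + 1) (Fin.last n)) (pw f n).hom f := by
  refine ⟨⟨(Over.w (initMap f n)).trans (prj_comp f (n + 1) _).symm⟩, ⟨?_⟩⟩
  refine PullbackCone.IsLimit.mk _ (fun s => WidePullback.lift (s.fst ≫ (pw f n).hom)
      (Fin.lastCases s.snd fun j => s.fst ≫ prj f n j) ?_) (fun s => ?_) (fun s => ?_) (fun s m h1 h2 => ?_)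
  · intro j
    induction j using Fin.lastCases with
    | last => rw [Fin.lastCases_last]; exact s.condition.symm
    | cast j => rw [Fin.lastCases_castSucc, Category.assoc, prj_comp]
  · refine WidePullback.hom_ext _ _ _ (fun j => ?_) ?_
    · rw [Category.assoc, initMap_prj, WidePullback.lift_π, Fin.lastCases_castSucc]
    · rw [Category.assoc]
      exact (congrArg _ (Over.w (initMap f n))).trans (WidePullback.lift_base _ _ _ _)
  · rw [WidePullback.lift_π, Fin.lastCases_last]
  · refine WidePullback.hom_ext _ _ _ (fun j => ?_) ?_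
    · rw [WidePullback.lift_π]
      induction j using Fin.lastCases with
      | last => rw [Fin.lastCases_last]; exact h2
      | cast j => rw [Fin.lastCases_castSucc, ← h1, Category.assoc, initMap_prj]
    · rw [WidePullback.lift_base, ← h1, Category.assoc]
      exact congrArg _ (Over.w (initMap f n)).symm

variable [SmoothOfRelativeDimension 1 f] [IsSeparated f]

/-- The sum of the tautological points of the fibre power. -/
def powDiv (n : ℕ) : (PicF.XT f (pw f n)).IdealSheafData :=
  ∏ i : Fin n, _root_.HilbD.secGraph f (pw f n) (prj f n i) (prj_comp f n i)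

omit [SmoothOfRelativeDimension 1 f] [IsSeparated f] in
theorem comap_prod {A B : Scheme.{u}} (h : A ⟶ B) {ι : Type*} (s : Finset ι) (I : ι → B.IdealSheafData) :
    (∏ i ∈ s, I i).comap h = ∏ i ∈ s, (I i).comap h := by
  classical
  induction s using Finset.induction_on with
  | empty =>
    rw [Finset.prod_empty, Finset.prod_empty, Scheme.IdealSheafData.one_eq_top]
    simp
  | insert a s ha ih => rw [Finset.prod_insert ha, Finset.prod_insert ha, comap_mul, ih]

omit [SmoothOfRelativeDimension 1 f] in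
theorem pull_prod_secGraph {T T' : Over S} (g : T' ⟶ T) {ι : Type*} [Fintype ι] (x : ι → (T.left ⟶ X))
    (hx : ∀ i, x i ≫ f = T.hom) :
    _root_.HilbD.pull f g (∏ i, _root_.HilbD.secGraph f T (x i) (hx i)) =
      ∏ i, _root_.HilbD.secGraph f T' (g.left ≫ x i) (by rw [Category.assoc, hx, Over.w g]) := by
  rw [HilbD.pull_eq_comap, comap_prod]
  refine Finset.prod_congr rfl fun i _ => ?_
  rw [← HilbD.pull_eq_comap, HilbD.pull_secGraph]

theorem isFinLocFreeOfDeg_prod {T : Over S} : ∀ (n : ℕ) (x : Fin n → (T.left ⟶ X)) (hx : ∀ i, x i ≫ f = T.hom),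
    Mor2.IsFinLocFreeOfDeg n ((∏ i, _root_.HilbD.secGraph f T (x i) (hx i)).subschemeι ≫ PicF.XTproj f T) := by
  intro n
  induction n with
  | zero =>
    intro x hx
    rw [Finset.univ_eq_empty, Finset.prod_empty, Scheme.IdealSheafData.one_eq_top]
    let I : (PicF.XT f T).IdealSheafData := ⊤
    haveI : IsEmpty I.subscheme := by
      rw [← I.subschemeι.ker_eq_top_iff_isEmpty, Scheme.IdealSheafData.ker_subschemeι]
    refine ⟨⟨inferInstance, inferInstance, inferInstance⟩, fun y => ?_⟩
    obtain ⟨U, hyU, -⟩ := exists_affine_le y ⊤ trivial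
    obtain ⟨p, rfl⟩ : ∃ p, U.2.fromSpec p = y := ⟨U.2.primeIdealOf ⟨y, hyU⟩, U.2.fromSpec_primeIdealOf _⟩
    rw [finrank_fromSpec_eq _ U.2 p]
    have : Subsingleton Γ(I.subscheme, (I.subschemeι ≫ PicF.XTproj f T) ⁻¹ᵁ U.1) := by
      rw [show (I.subschemeι ≫ PicF.XTproj f T) ⁻¹ᵁ U.1 = ⊥ from
        TopologicalSpace.Opens.ext (Set.eq_empty_of_isEmpty _)]
      exact CommRingCat.subsingleton_of_isTerminal (TopCat.Sheaf.isTerminalOfEmpty I.subscheme.sheaf)
    simp [Module.rankAtStalk_eq_zero_of_subsingleton]; rfl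
  | succ n ih =>
    intro x hx
    rw [Fin.prod_univ_castSucc]
    exact isFinLocFreeOfDeg_mul (ih _ _) (HilbD.isFinLocFreeOfDeg_secGraph f T _ _)

/-- The sum of the tautological points as a point of the Hilbert functor. -/
def powObj (n : ℕ) : _root_.HilbD.Obj f n (pw f n) := ⟨powDiv f n, isFinLocFreeOfDeg_prod f n _ _⟩

variable (hrep : ∀ e : ℕ, _root_.HilbD.Representable f e)
include hrep

/-- The map from the fibre power to the Hilbert scheme has degree `n!`. -/
theorem isFinLocFreeOfDeg_classify : ∀ (n : ℕ) (H : Over S) (Z : _root_.HilbD.Obj f n H),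
    _root_.HilbD.IsUniversal f n H Z → ∀ c : pw f n ⟶ H, _root_.HilbD.pull f c Z.1 = powDiv f n →
      Mor2.IsFinLocFreeOfDeg n.factorial c.left := by
  intro n
  induction n with
  | zero =>
    intro H Z hZ c _
    have huniq : ∀ (T : Over S) (I J : _root_.HilbD.Obj f 0 T), I = J := fun T I J =>
      Subtype.ext ((eq_top_of_finrank_zero I.2.1 I.2.2).trans (eq_top_of_finrank_zero J.2.1 J.2.2).symm)
    haveI : IsIso (pw f 0).hom := by
      show IsIso (WidePullback.base fun _ : Fin 0 => f)
      refine ⟨WidePullback.lift (𝟙 S) (fun j => j.elim0) (fun j => j.elim0), ?_, WidePullback.lift_base _ _ _ _⟩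
      refine WidePullback.hom_ext _ _ _ (fun j => j.elim0) ?_
      rw [Category.assoc, WidePullback.lift_base, Category.comp_id, Category.id_comp]
    let h : H ⟶ pw f 0 := Over.homMk (H.hom ≫ inv (pw f 0).hom) (by simp)
    obtain ⟨_, -, hu⟩ := hZ H Z
    have h1 : h ≫ c = 𝟙 H := (hu _ (congrArg Subtype.val
      (huniq H ⟨_, HilbD.isFinLocFreeOfDeg_pull f 0 (h ≫ c) Z.2⟩ Z))).trans (hu _ (congrArg Subtype.val
      (huniq H ⟨_, HilbD.isFinLocFreeOfDeg_pull f 0 (𝟙 H) Z.2⟩ Z))).symm
    haveI : IsIso c.left := ⟨h.left, by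
      rw [← cancel_mono (pw f 0).hom, Category.id_comp, Category.assoc, Over.w h, Over.w c],
      congrArg CommaMorphism.left h1⟩
    exact HilbD.isFinLocFreeOfDeg_one_of_isIso c.left
  | succ n ih =>
    intro H Z hZ c hc
    obtain ⟨H₀, Z₀, hZ₀⟩ := hrep n
    obtain ⟨c₀, hc₀, -⟩ := hZ₀ (pw f n) (powObj f n)
    have hdeg := ih H₀ Z₀ hZ₀ c₀ hc₀
    let T : Over S := Over.mk (pullback.fst H₀.hom f ≫ H₀.hom)
    let pr : T ⟶ H₀ := Over.homMk (pullback.fst H₀.hom f) rfl
    let xT : T.left ⟶ X := pullback.snd H₀.hom f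
    have hxT : xT ≫ f = T.hom := pullback.condition.symm
    obtain ⟨m, hm, -⟩ := hZ T ⟨_, isFinLocFreeOfDeg_mul (HilbD.isFinLocFreeOfDeg_pull f n pr Z₀.2)
      (HilbD.isFinLocFreeOfDeg_secGraph f T xT hxT)⟩
    let u₀ : (pw f (n + 1)).left ⟶ T.left :=
      pullback.lift ((initMap f n).left ≫ c₀.left) (prj f (n + 1) (Fin.last n))
        (by rw [Category.assoc, Over.w c₀, Over.w (initMap f n), prj_comp])
    let u : pw f (n + 1) ⟶ T := Over.homMk u₀ (by
      show u₀ ≫ pullback.fst H₀.hom f ≫ H₀.hom = _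
      rw [pullback.lift_fst_assoc, Category.assoc, Over.w c₀, Over.w (initMap f n)])
    have hupr : u ≫ pr = initMap f n ≫ c₀ := by ext1; exact pullback.lift_fst _ _ _
    have hux : u.left ≫ xT = prj f (n + 1) (Fin.last n) := pullback.lift_snd _ _ _
    have hum : u ≫ m = c := by
      obtain ⟨_, -, hu⟩ := hZ (pw f (n + 1)) (powObj f (n + 1))
      refine (hu _ ?_).trans (hu _ hc).symm
      show _root_.HilbD.pull f (u ≫ m) Z.1 = powDiv f (n + 1)
      rw [HilbD.pull_comp, hm, HilbD.pull_eq_comap f u, comap_mul, ← HilbD.pull_eq_comap,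
        ← HilbD.pull_eq_comap, HilbD.pull_secGraph, ← HilbD.pull_comp, hupr, HilbD.pull_comp, hc₀,
        powDiv, powObj]
      show _root_.HilbD.pull f (initMap f n) (∏ i, _) * _ = _
      rw [pull_prod_secGraph, Fin.prod_univ_castSucc]
      congr 1
      · refine Finset.prod_congr rfl fun i _ => ?_
        congr 1
        exact initMap_prj f n i
      · congr 1
    have hsq : IsPullback (initMap f n).left u₀ c₀.left (pullback.fst H₀.hom f) := by
      refine IsPullback.of_bot ?_ (pullback.lift_fst _ _ _).symm (IsPullback.of_hasPullback H₀.hom f).flip.flip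
      rw [pullback.lift_snd, Over.w c₀]
      exact isPullback_initMap f n
    obtain ⟨⟨e1, e2, e3⟩, e4⟩ := hdeg
    have hdu : Mor2.IsFinLocFreeOfDeg n.factorial u₀ := by
      refine ⟨⟨MorphismProperty.of_isPullback (P := @IsFinite) hsq e1,
        MorphismProperty.of_isPullback (P := @Flat) hsq e2,
        MorphismProperty.of_isPullback (P := @LocallyOfFinitePresentation) hsq e3⟩, fun y => ?_⟩
      haveI := e1; haveI := e2
      exact (Scheme.Hom.finrank_of_isPullback _ _ _ _ hsq y).trans (e4 _)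
    have := isFinLocFreeOfDeg_comp hdu (Groth.Agent.S1173.result f n H₀ Z₀ hZ₀ H Z hZ m hm)
    rw [Nat.factorial_succ, mul_comm, ← hum]
    exact this

end Groth.Agent.RelDiv

end
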