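import Groth.Agent.RelDiv.Fibre
import Groth.Agent.EGA41Lib.RegFlat

/-!
# An element of a smooth algebra which is nonzero in a fibre local ring is regular
-/

set_option autoImplicit false

universe u

open TensorProduct IsLocalRing

namespace Groth.Agent.RelDiv

variable (A : Type u) {B : Type u} [CommRing A] [CommRing B] [Algebra A B]

/-- The Noetherian case, with flat cokernel. -/
theorem regular_and_flat [IsNoetherianRing A] [Algebra.Smooth A B] (q : Ideal B) [q.IsPrime] (t : B)
    (ht : algebraMap B (EGA4.FibLocRing A B q) t ≠ 0) :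
    IsSMulRegular (Localization.AtPrime q) (algebraMap B (Localization.AtPrime q) t) ∧
      Module.Flat A (QuotSMulTop (algebraMap B (Localization.AtPrime q) t) (Localization.AtPrime q)) := by
  haveI := isDomain_fibLocRing A q
  haveI : IsNoetherianRing B := Algebra.FiniteType.isNoetherianRing A B
  let p := q.comap (algebraMap A B)
  let Ap := Localization.AtPrime p
  let Bq := Localization.AtPrime q
  letI : Algebra Ap Bq := (Localization.localRingHom p q (algebraMap A B) rfl).toAlgebra
  haveI : IsScalarTower A Ap Bq := IsScalarTower.of_algebraMap_eq fun a => by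
    rw [RingHom.algebraMap_toAlgebra, Localization.localRingHom_to_map, ← IsScalarTower.algebraMap_apply]
  haveI : IsLocalHom (algebraMap Ap Bq) := Localization.isLocalHom_localRingHom _ _ _ rfl
  haveI : Module.Flat Ap Bq :=
    RingHom.flat_algebraMap_iff.1
      (RingHom.Flat.localRingHom (RingHom.flat_algebraMap_iff.2 inferInstance) q p rfl)
  have hK : p.map (algebraMap A Bq) = (maximalIdeal Ap).map (algebraMap Ap Bq) := by
    rw [← Localization.AtPrime.map_eq_maximalIdeal, Ideal.map_map, ← IsScalarTower.algebraMap_eq]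
  have hreg : IsSMulRegular (Bq ⧸ ((maximalIdeal Ap).map (algebraMap Ap Bq) • (⊤ : Submodule Bq Bq)))
      (algebraMap B Bq t) := by
    have hT : ((maximalIdeal Ap).map (algebraMap Ap Bq) • (⊤ : Submodule Bq Bq)) = p.map (algebraMap A Bq) := by
      rw [hK, smul_eq_mul, Ideal.mul_top]
    intro x y hxy
    apply (Submodule.quotEquivOfEq _ _ hT).injective
    have h := congrArg (Submodule.quotEquivOfEq _ _ hT) hxy
    rw [map_smul, map_smul] at h
    refine mul_left_cancel₀ (M₀ := EGA4.FibLocRing A B q) (a := algebraMap B (EGA4.FibLocRing A B q) t) ht ?_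
    rw [IsScalarTower.algebraMap_apply B Bq (EGA4.FibLocRing A B q), ← Algebra.smul_def, ← Algebra.smul_def]
    exact h
  obtain ⟨h1, h2⟩ := EGA41Lib.regular_and_flat_of_fibre (A := Ap) (M := Bq) (algebraMap B Bq t) hreg
  exact ⟨h1, Module.Flat.trans A Ap _⟩

/-- Transfer of regularity from a Noetherian model. -/
theorem isSMulRegular_of_model (A₁ : Type u) [CommRing A₁] [IsNoetherianRing A₁] [Algebra A₁ A]
    [Algebra A₁ B] [IsScalarTower A₁ A B] (B₁ : Type u) [CommRing B₁] [Algebra A₁ B₁] [Algebra.Smooth A₁ B₁]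
    [Algebra B₁ B] [IsScalarTower A₁ B₁ B] [Algebra.IsPushout A₁ B₁ A B] (q : Ideal B) [q.IsPrime] (t₁ : B₁)
    (ht : algebraMap B (EGA4.FibLocRing A B q) (algebraMap B₁ B t₁) ≠ 0) :
    IsSMulRegular (Localization.AtPrime q) (algebraMap B (Localization.AtPrime q) (algebraMap B₁ B t₁)) := by
  let q₁ := q.comap (algebraMap B₁ B)
  let p₁ := q₁.comap (algebraMap A₁ B₁)
  let Bq := Localization.AtPrime q
  let M := Localization.AtPrime q₁
  let lam : M →+* Bq := Localization.localRingHom q₁ q (algebraMap B₁ B) rfl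
  have hp : p₁.map (algebraMap A₁ A) ≤ q.comap (algebraMap A B) := by
    rw [Ideal.map_le_iff_le_comap]
    intro a ha
    show algebraMap A B (algebraMap A₁ A a) ∈ q
    rw [← IsScalarTower.algebraMap_apply, IsScalarTower.algebraMap_apply A₁ B₁ B]
    exact ha
  have hne : algebraMap B₁ (EGA4.FibLocRing A₁ B₁ q₁) t₁ ≠ 0 := by
    intro h0
    apply ht
    rw [IsScalarTower.algebraMap_apply B₁ M (EGA4.FibLocRing A₁ B₁ q₁)] at h0
    rw [IsScalarTower.algebraMap_apply B Bq (EGA4.FibLocRing A B q)]
    change Ideal.Quotient.mk _ _ = 0 at h0 ⊢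
    rw [Ideal.Quotient.eq_zero_iff_mem] at h0 ⊢
    have h2 := Ideal.mem_map_of_mem lam h0
    rw [Ideal.map_map] at h2
    have hc : lam.comp (algebraMap A₁ M) = (algebraMap A Bq).comp (algebraMap A₁ A) := by
      ext a
      show lam (algebraMap A₁ M a) = algebraMap A Bq (algebraMap A₁ A a)
      rw [IsScalarTower.algebraMap_apply A₁ B₁ M, Localization.localRingHom_to_map,
        ← IsScalarTower.algebraMap_apply A₁ B₁ B, IsScalarTower.algebraMap_apply A₁ A B,
        ← IsScalarTower.algebraMap_apply A B Bq]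
    rw [hc, ← Ideal.map_map, Localization.localRingHom_to_map] at h2
    exact Ideal.map_mono hp h2
  obtain ⟨hreg, hflat⟩ := regular_and_flat A₁ q₁ t₁ hne
  haveI := hflat
  have hinj := EGA41Lib.lTensor_lsmul_injective (A := A₁) (M := M) (algebraMap B₁ M t₁) hreg A
  let SS : Submonoid B := Algebra.algebraMapSubmonoid B q₁.primeCompl
  let B' := Localization SS
  letI : Algebra M B' := localizationAlgebra q₁.primeCompl B
  haveI : IsScalarTower B₁ M B' := IsScalarTower.of_algebraMap_eq' (IsLocalization.map_comp _).symm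
  haveI : Algebra.IsPushout B₁ M B B' := ((Algebra.isLocalization_iff_isPushout q₁.primeCompl M).mp inferInstance).symm
  haveI : IsScalarTower A₁ B B' := inferInstance
  haveI : IsScalarTower A₁ A B' := inferInstance
  haveI : IsScalarTower A₁ M B' := IsScalarTower.of_algebraMap_eq fun a => by
    rw [IsScalarTower.algebraMap_apply A₁ B₁ M, ← IsScalarTower.algebraMap_apply B₁ M B',
      IsScalarTower.algebraMap_apply B₁ B B', ← IsScalarTower.algebraMap_apply A₁ B₁ B,
      IsScalarTower.algebraMap_apply A₁ B B']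
  haveI h3 : Algebra.IsPushout A₁ M A B' :=
    (Algebra.IsPushout.comp_iff (R := A₁) (S := B₁) (R' := A) (S' := B) (T := M) (T' := B')).mpr inferInstance
  have hbc : IsBaseChange A (IsScalarTower.toAlgHom A₁ M B').toLinearMap := h3.symm.out
  have hreg' : IsSMulRegular B' (algebraMap M B' (algebraMap B₁ M t₁)) := by
    have heq : ∀ z, algebraMap M B' (algebraMap B₁ M t₁) * hbc.equiv z =
        hbc.equiv (LinearMap.lTensor A (((LinearMap.lsmul M M) (algebraMap B₁ M t₁)).restrictScalars A₁) z) := by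
      intro z
      induction z using TensorProduct.induction_on with
      | zero => simp
      | tmul a m =>
        simp [IsBaseChange.equiv_tmul, Algebra.smul_def]
        ring
      | add x y hx hy => simp only [map_add, mul_add, hx, hy]
    intro x y hxy
    obtain ⟨x, rfl⟩ := hbc.equiv.surjective x
    obtain ⟨y, rfl⟩ := hbc.equiv.surjective y
    simp only [smul_eq_mul, heq] at hxy
    rw [hinj (hbc.equiv.injective hxy)]
  have hSS : SS ≤ q.primeCompl := by
    rintro _ ⟨s, hs, rfl⟩
    exact hs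
  letI : Algebra B' Bq := IsLocalization.localizationAlgebraOfSubmonoidLe B' Bq SS q.primeCompl hSS
  haveI : IsScalarTower B B' Bq := IsLocalization.localization_isScalarTower_of_submonoid_le B' Bq SS q.primeCompl hSS
  haveI : IsLocalization (q.primeCompl.map (algebraMap B B')) Bq :=
    IsLocalization.isLocalization_of_submonoid_le B' Bq SS q.primeCompl hSS
  haveI : Module.Flat B' Bq := IsLocalization.flat Bq (q.primeCompl.map (algebraMap B B'))
  have := hreg'.of_flat (S := Bq)
  rwa [← IsScalarTower.algebraMap_apply B₁ M B', IsScalarTower.algebraMap_apply B₁ B B',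
    ← IsScalarTower.algebraMap_apply B B' Bq] at this

/-- An element of a smooth algebra which is nonzero in the fibre local ring at `q` is regular at `q`. -/
theorem isSMulRegular_of_ne_zero [Algebra.Smooth A B] (q : Ideal B) [q.IsPrime] (t : B)
    (ht : algebraMap B (EGA4.FibLocRing A B q) t ≠ 0) :
    IsSMulRegular (Localization.AtPrime q) (algebraMap B (Localization.AtPrime q) t) := by
  classical
  obtain ⟨A₀, B₀, _, _, hfg, _, ⟨e₀⟩⟩ := Algebra.Smooth.exists_subalgebra_fg ℤ A B
  haveI : IsNoetherianRing A₀ :=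
    haveI : Algebra.FiniteType ℤ A₀ := (Subalgebra.fg_iff_finiteType A₀).mp hfg
    Algebra.FiniteType.isNoetherianRing ℤ A₀
  obtain ⟨S, hS⟩ := TensorProduct.exists_finset (e₀ t)
  let A₁ : Subalgebra A₀ A := Algebra.adjoin A₀ (↑(S.image Prod.fst) : Set A)
  haveI : IsNoetherianRing A₁ :=
    haveI : Algebra.FiniteType A₀ A₁ := (Subalgebra.fg_iff_finiteType A₁).mp ⟨S.image Prod.fst, rfl⟩
    Algebra.FiniteType.isNoetherianRing A₀ A₁
  let B₁ := A₁ ⊗[A₀] B₀
  let ε : A ⊗[A₁] B₁ ≃ₐ[A] B := (Algebra.TensorProduct.cancelBaseChange A₀ A₁ A A B₀).trans e₀.symm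
  let t₁ : B₁ := ∑ i ∈ S.attach,
    (⟨i.1.1, Algebra.subset_adjoin (Finset.mem_image_of_mem _ i.2)⟩ : A₁) ⊗ₜ[A₀] i.1.2
  letI : Algebra B₁ B := (ε.toAlgHom.toRingHom.comp Algebra.TensorProduct.includeRight.toRingHom).toAlgebra
  have hB₁ : ∀ b : B₁, algebraMap B₁ B b = ε (1 ⊗ₜ b) := fun b => rfl
  have ht₁ : algebraMap B₁ B t₁ = t := by
    rw [hB₁]
    simp only [t₁, TensorProduct.tmul_sum, map_sum, ε, AlgEquiv.trans_apply,
      Algebra.TensorProduct.cancelBaseChange_tmul]
    rw [← e₀.symm_apply_apply t, hS, map_sum, ← Finset.sum_attach S (fun i => e₀.symm (i.1 ⊗ₜ[A₀] i.2))]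
    refine Finset.sum_congr rfl fun i _ => ?_
    congr 1
    refine (Algebra.TensorProduct.cancelBaseChange_tmul (R := A₀) (S := A₁) (T := A) (A := A) (B := B₀) _ _ _).trans ?_
    simp [Subalgebra.smul_def]
  haveI : IsScalarTower A₁ A B := inferInstance
  haveI : IsScalarTower A₁ B₁ B := IsScalarTower.of_algebraMap_eq fun a => by
    refine ((IsScalarTower.algebraMap_apply A₁ A B a).trans ?_).trans (hB₁ (algebraMap A₁ B₁ a)).symm
    refine (ε.commutes (algebraMap A₁ A a)).symm.trans (congrArg ε ?_)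
    show (algebraMap A₁ A a) ⊗ₜ[A₁] (1 : B₁) = 1 ⊗ₜ[A₁] algebraMap A₁ B₁ a
    rw [Algebra.algebraMap_eq_smul_one a, TensorProduct.smul_tmul, Algebra.algebraMap_eq_smul_one]
  haveI : Algebra.IsPushout A₁ B₁ A B := by
    refine Algebra.IsPushout.symm ?_
    rw [Algebra.isPushout_iff]
    exact IsBaseChange.of_equiv ε.toLinearEquiv fun b => rfl
  rw [← ht₁] at ht ⊢
  exact isSMulRegular_of_model A A₁ B₁ q t₁ ht

end Groth.Agent.RelDiv
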