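import Mathlib

/-!
# Rank of a sum of two divisors in a finite algebra
-/

set_option autoImplicit false

universe u

namespace Groth.Agent.RelDiv

variable {R : Type u} [CommRing R]

/-- An element congruent to prescribed elements at finitely many incomparable primes. -/
theorem exists_generator {ι : Type*} [Finite ι] (n : ι → Ideal R) [∀ i, (n i).IsPrime]
    (hn : ∀ i j, n i ≤ n j → i = j) (P : Ideal R) (a : ι → R) (ha : ∀ i, a i ∈ P)
    (hgen : ∀ i, P.map (algebraMap R (Localization.AtPrime (n i))) =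
      Ideal.span {algebraMap R (Localization.AtPrime (n i)) (a i)}) :
    ∃ t ∈ P, ∀ i, P.map (algebraMap R (Localization.AtPrime (n i))) =
      Ideal.span {algebraMap R (Localization.AtPrime (n i)) t} := by
  classical
  cases nonempty_fintype ι
  have hsep : ∀ i j, i ≠ j → ∃ c ∈ n j, c ∉ n i := fun i j hij =>
    SetLike.not_le_iff_exists.mp fun h => hij (hn j i h).symm
  choose c hc hc' using hsep
  let e : ι → R := fun i => ∏ j, if h : i = j then 1 else c i j h
  have he : ∀ i, e i ∉ n i := fun i h => by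
    obtain ⟨j, -, hj⟩ := Ideal.IsPrime.prod_mem_iff.mp h
    split at hj
    · exact Ideal.IsPrime.ne_top inferInstance ((Ideal.eq_top_iff_one _).mpr hj)
    · exact hc' i j _ hj
  have he' : ∀ i j, i ≠ j → e i ∈ n j := fun i j h =>
    Ideal.prod_mem _ (Finset.mem_univ j) (by rw [dif_neg h]; exact hc i j h)
  refine ⟨∑ i, e i * a i, Ideal.sum_mem _ fun i _ => Ideal.mul_mem_left _ _ (ha i), fun i => ?_⟩
  let L := Localization.AtPrime (n i)
  let φ := algebraMap R L
  have hmem : ∀ x ∈ P, ∃ r : L, φ x = r * φ (a i) := fun x hx => by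
    obtain ⟨r, hr⟩ := Ideal.mem_span_singleton'.mp ((hgen i) ▸ Ideal.mem_map_of_mem φ hx)
    exact ⟨r, hr.symm⟩
  choose r hr using hmem
  let s : L := ∑ j ∈ Finset.univ.erase i, φ (e j) * r (a j) (ha j)
  have hs : s ∈ IsLocalRing.maximalIdeal L := Ideal.sum_mem _ fun j hj => Ideal.mul_mem_right _ _ (by
    rw [← Localization.AtPrime.map_eq_maximalIdeal]
    exact Ideal.mem_map_of_mem _ (he' j i (Finset.ne_of_mem_erase hj)))
  have ht : φ (∑ j, e j * a j) = (φ (e i) + s) * φ (a i) := by
    rw [map_sum, ← Finset.add_sum_erase _ _ (Finset.mem_univ i), add_mul, map_mul, Finset.sum_mul]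
    congr 1
    refine Finset.sum_congr rfl fun j _ => ?_
    rw [map_mul, hr (a j) (ha j), mul_assoc]
  have hu : IsUnit (φ (e i) + s) := by
    by_contra h
    have hu' : φ (e i) ∈ IsLocalRing.maximalIdeal L := by
      simpa using Ideal.sub_mem _ ((IsLocalRing.mem_maximalIdeal _).mpr h) hs
    exact (IsLocalRing.mem_maximalIdeal _).mp hu' (IsLocalization.map_units L (⟨e i, he i⟩ : (n i).primeCompl))
  rw [hgen i, ht, Ideal.span_singleton_mul_left_unit hu]

variable {A : Type u} [CommRing A] [Algebra A R] [Module.Finite A R]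

/-- The rank of the sum of two divisors is the sum of the ranks. -/
theorem rankAtStalk_add (P₁ P₂ : Ideal R) [Module.Projective A (R ⧸ P₁)] [Module.Projective A R]
    [Module.Flat A (R ⧸ P₂)]
    (hloc : ∀ (n : Ideal R) [n.IsPrime], ∃ a b : R, a ∈ P₁ ∧ b ∈ P₂ ∧
      P₁.map (algebraMap R (Localization.AtPrime n)) = Ideal.span {algebraMap R (Localization.AtPrime n) a} ∧
      P₂.map (algebraMap R (Localization.AtPrime n)) = Ideal.span {algebraMap R (Localization.AtPrime n) b} ∧
      ∀ x, algebraMap R (Localization.AtPrime n) a * x = 0 ↔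
        x ∈ P₂.map (algebraMap R (Localization.AtPrime n)))
    (p : PrimeSpectrum A) :
    Module.rankAtStalk (R := A) R p =
      Module.rankAtStalk (R := A) (R ⧸ P₁) p + Module.rankAtStalk (R := A) (R ⧸ P₂) p := by
  classical
  -- the products vanish
  have hzero : ∀ x ∈ P₁, ∀ y ∈ P₂, x * y = 0 := by
    intro x hx y hy
    by_contra hne
    obtain ⟨n, hn, hle⟩ := Ideal.exists_le_maximal (Ideal.span {x * y}).annihilator (by
      intro h
      rw [Submodule.annihilator_eq_top_iff, Ideal.span_singleton_eq_bot] at h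
      exact hne h)
    obtain ⟨a, b, -, -, hP₁, -, hann⟩ := hloc n
    obtain ⟨c, hc⟩ := Ideal.mem_span_singleton'.mp (hP₁ ▸ Ideal.mem_map_of_mem (algebraMap R (Localization.AtPrime n)) hx)
    have h0 : algebraMap R (Localization.AtPrime n) (x * y) = 0 := by
      rw [map_mul, ← hc, mul_assoc, (hann _).mpr (Ideal.mem_map_of_mem _ hy), mul_zero]
    obtain ⟨⟨s, hs⟩, hsx⟩ := (IsLocalization.map_eq_zero_iff n.primeCompl _ _).mp h0
    exact hs (hle ((Submodule.mem_annihilator_span_singleton _ _).mpr (by rw [smul_eq_mul]; exact hsx)))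
  -- the primes over `p`
  haveI : Algebra.QuasiFinite A R := inferInstance
  let ι := ↥((PrimeSpectrum.comap (algebraMap A R)) ⁻¹' {p})
  haveI : Finite ι := (Algebra.QuasiFinite.finite_comap_preimage_singleton p).to_subtype
  choose a b ha _ hP₁ hP₂ hann using fun i : ι => hloc i.1.asIdeal
  obtain ⟨t, ht, hgen⟩ := exists_generator (fun i : ι => i.1.asIdeal) (fun i j h => Subtype.ext (PrimeSpectrum.ext
    (Algebra.QuasiFinite.eq_of_le_of_under_eq (R := A) _ _ h
      ((congrArg PrimeSpectrum.asIdeal i.2).trans (congrArg PrimeSpectrum.asIdeal j.2).symm)))) P₁ a ha hP₁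
  -- lifting a condition at all primes over `p`
  have key : ∀ 𝔞 : Ideal R, (∀ i : ι, ¬ 𝔞 ≤ i.1.asIdeal) → ∃ s : p.asIdeal.primeCompl, algebraMap A R s ∈ 𝔞 := by
    intro 𝔞 h𝔞
    by_contra! hne
    have hdisj : Disjoint (𝔞 : Set R) (Algebra.algebraMapSubmonoid R p.asIdeal.primeCompl : Set R) := by
      rw [Set.disjoint_left]
      rintro _ hx ⟨s, hs, rfl⟩
      exact hne ⟨s, hs⟩ hx
    obtain ⟨N, hN, hle, hdN⟩ := Ideal.exists_le_prime_disjoint 𝔞 (Algebra.algebraMapSubmonoid R p.asIdeal.primeCompl) hdisj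
    obtain ⟨n, hn, hnp, hcomap⟩ := Ideal.exists_ideal_over_prime_of_isIntegral p.asIdeal N (fun x hx => by
      by_contra hxp
      exact Set.disjoint_left.mp hdN hx ⟨x, hxp, rfl⟩)
    exact h𝔞 ⟨⟨n, hnp⟩, PrimeSpectrum.ext hcomap⟩ (hle.trans hn)
  let φ : (R ⧸ P₂) →ₗ[A] P₁ :=
    ((Submodule.liftQ P₂ ((LinearMap.mulRight R t).codRestrict P₁ fun x => Ideal.mul_mem_left _ x ht) (fun y hy => by
      rw [LinearMap.mem_ker]
      exact Subtype.ext ((mul_comm _ _).trans (hzero t ht y hy)))).restrictScalars A)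
  have hφ : ∀ x : R, (φ (Ideal.Quotient.mk P₂ x) : R) = x * t := fun x => rfl
  have hinj : ∀ x : R, x * t = 0 → ∃ s : p.asIdeal.primeCompl, algebraMap A R s * x ∈ P₂ := by
    intro x hx
    refine (key (Submodule.colon P₂ {x}) fun i hle => ?_).imp fun s hs => ?_
    · have h1 : algebraMap R (Localization.AtPrime i.1.asIdeal) (a i) * algebraMap R _ x = 0 := by
        obtain ⟨c, hc⟩ := Ideal.mem_span_singleton'.mp ((hgen i).symm.trans (hP₁ i) ▸
          (Ideal.mem_span_singleton_self (algebraMap R (Localization.AtPrime i.1.asIdeal) t)))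
        obtain ⟨c', hc'⟩ := Ideal.mem_span_singleton'.mp ((hgen i) ▸ Ideal.mem_map_of_mem
          (algebraMap R (Localization.AtPrime i.1.asIdeal)) (ha i))
        rw [← hc', mul_assoc, ← map_mul, mul_comm t, hx, map_zero, mul_zero]
      obtain ⟨⟨⟨y, hy⟩, s⟩, hys⟩ := (IsLocalization.mem_map_algebraMap_iff i.1.asIdeal.primeCompl _).mp ((hann i _).mp h1)
      rw [← map_mul] at hys
      obtain ⟨⟨e, he⟩, hes⟩ := (IsLocalization.eq_iff_exists i.1.asIdeal.primeCompl _).mp hys
      refine i.1.isPrime.mul_notMem he s.2 (hle ?_)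
      rw [Submodule.mem_colon_singleton, smul_eq_mul, show e * (s : R) * x = e * (x * s) by ring, hes]
      exact Ideal.mul_mem_left _ _ hy
    · simpa [Submodule.mem_colon_singleton] using hs
  have hsurj : ∀ y ∈ P₁, ∃ (s : p.asIdeal.primeCompl) (x : R), x * t = algebraMap A R s * y := by
    intro y hy
    obtain ⟨s, hs⟩ := key (Submodule.colon (Ideal.span {t}) {y}) fun i hle => by
      obtain ⟨c, hc⟩ := Ideal.mem_span_singleton'.mp ((hgen i) ▸ Ideal.mem_map_of_mem
        (algebraMap R (Localization.AtPrime i.1.asIdeal)) hy)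
      obtain ⟨c, s, rfl⟩ := IsLocalization.exists_mk'_eq i.1.asIdeal.primeCompl c
      obtain ⟨⟨e, he⟩, hes⟩ : ∃ e : i.1.asIdeal.primeCompl, (e : R) * (c * t) = e * (s * y) := by
        refine (IsLocalization.eq_iff_exists i.1.asIdeal.primeCompl (Localization.AtPrime i.1.asIdeal)).mp ?_
        rw [map_mul, map_mul, ← hc, ← mul_assoc, IsLocalization.mk'_spec']
      refine i.1.isPrime.mul_notMem he s.2 (hle ?_)
      rw [Submodule.mem_colon_singleton, smul_eq_mul, mul_assoc, ← hes, ← mul_assoc]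
      exact Ideal.mul_mem_left _ _ (Ideal.mem_span_singleton_self t)
    rw [Submodule.mem_colon_singleton, smul_eq_mul, Ideal.mem_span_singleton'] at hs
    obtain ⟨x, hx⟩ := hs
    exact ⟨s, x, hx⟩
  -- the exact sequence splits
  let π : R →ₗ[A] R ⧸ P₁ := (Ideal.Quotient.mkₐ A P₁).toLinearMap
  obtain ⟨σ, hσ⟩ := Module.projective_lifting_property π LinearMap.id Ideal.Quotient.mk_surjective
  let e : R ≃ₗ[A] P₁ × (R ⧸ P₁) :=
    (Function.Exact.splitSurjectiveEquiv (f := (P₁.subtype.restrictScalars A)) (g := π)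
      (fun x => by simp [π, Ideal.Quotient.eq_zero_iff_mem])
      Subtype.val_injective ⟨σ, hσ⟩).1
  haveI : Module.Flat A R := inferInstance
  haveI : Module.Flat A P₁ := Module.Flat.of_retract (e.symm.toLinearMap ∘ₗ LinearMap.inl A P₁ (R ⧸ P₁))
    ((LinearMap.fst A P₁ (R ⧸ P₁)) ∘ₗ e.toLinearMap) (by ext x; simp)
  haveI : Module.Finite A P₁ :=
    Module.Finite.of_surjective ((LinearMap.fst A P₁ (R ⧸ P₁)) ∘ₗ e.toLinearMap)
      ((LinearMap.fst_surjective (R := A) (M := P₁) (M₂ := R ⧸ P₁)).comp e.surjective)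
  rw [Module.rankAtStalk_eq_of_equiv e, Module.rankAtStalk_prod, Pi.add_apply, add_comm]
  congr 1
  refine (LinearEquiv.finrank_eq (LinearEquiv.ofBijective (LocalizedModule.map p.asIdeal.primeCompl φ) ⟨?_, ?_⟩)).symm
  · rw [injective_iff_map_eq_zero]
    intro z hz
    induction z using LocalizedModule.induction_on with
    | h m s =>
      rw [LocalizedModule.map_mk, ← LocalizedModule.zero_mk 1, LocalizedModule.mk_eq] at hz
      obtain ⟨⟨e', he'⟩, hz⟩ := hz
      simp only [one_smul, smul_zero] at hz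
      obtain ⟨x, rfl⟩ := Ideal.Quotient.mk_surjective m
      have hx : (algebraMap A R e' * x) * t = 0 := by
        have := congrArg Subtype.val hz
        rw [mul_assoc, ← Algebra.smul_def]
        exact this
      obtain ⟨s', hs'⟩ := hinj _ hx
      rw [← LocalizedModule.zero_mk 1, LocalizedModule.mk_eq]
      refine ⟨⟨s' * e', Submonoid.mul_mem _ s'.2 he'⟩, ?_⟩
      simp only [one_smul, smul_zero]
      show ((s' : A) * e') • Ideal.Quotient.mk P₂ x = 0
      rw [← Ideal.Quotient.mkₐ_eq_mk A, ← map_smul, Ideal.Quotient.mkₐ_eq_mk, Ideal.Quotient.eq_zero_iff_mem,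
        Algebra.smul_def, map_mul, mul_assoc]
      exact hs'
  · intro z
    induction z using LocalizedModule.induction_on with
    | h m s =>
      obtain ⟨s', x, hx⟩ := hsurj m.1 m.2
      refine ⟨LocalizedModule.mk (Ideal.Quotient.mk P₂ x) (s' * s), ?_⟩
      rw [LocalizedModule.map_mk, LocalizedModule.mk_eq]
      refine ⟨1, Subtype.ext ?_⟩
      simp only [one_smul]
      show (s : A) • (x * t) = ((s' : A) * s) • (m : R)
      rw [hx, ← Algebra.smul_def, smul_smul, mul_comm]

end Groth.Agent.RelDiv
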