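import Groth.Agent.RelDiv.Semilocal
import Groth.Agent.RelDiv.Geom
import Groth.Agent.HilbD.Push
import Mathlib.AlgebraicGeometry.Morphisms.FlatRank
import Mathlib.AlgebraicGeometry.ZariskisMainTheorem

/-!
# Sums of relative divisors
-/

set_option autoImplicit false

universe u

open CategoryTheory CategoryTheory.Limits AlgebraicGeometry TopologicalSpace
open Groth.Agent.IdealSh.Comap

namespace Groth.Agent.RelDiv

variable {X S : Scheme.{u}}

theorem finrank_fromSpec_eq {D : Scheme.{u}} (q : D ⟶ S) [IsFinite q] [Flat q] {U : S.Opens} (hU : IsAffineOpen U)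
    (p : PrimeSpectrum Γ(S, U)) :
    letI := (q.app U).hom.toAlgebra
    q.finrank (hU.fromSpec p) = Module.rankAtStalk (R := Γ(S, U)) Γ(D, q ⁻¹ᵁ U) p := by
  letI := (q.app U).hom.toAlgebra
  haveI : Module.Finite Γ(S, U) Γ(D, q ⁻¹ᵁ U) := q.finite_app U hU
  haveI : Module.Flat Γ(S, U) Γ(D, q ⁻¹ᵁ U) := by
    have := q.flat_appLE hU (hU.preimage q) (e := le_rfl)
    rwa [← Scheme.Hom.app_eq_appLE] at this
  have hsq : IsPullback (hU.preimage q).fromSpec (Spec.map (q.app U)) q hU.fromSpec := by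
    have h1 := (isPullback_morphismRestrict q U).flip
    have h2 : IsPullback (hU.preimage q).isoSpec.inv (Spec.map (q.app U)) (q ∣_ U) hU.isoSpec.inv := by
      refine IsPullback.of_horiz_isIso ⟨?_⟩
      rw [← cancel_mono U.ι, Category.assoc, morphismRestrict_ι, Category.assoc, ← Category.assoc,
        IsAffineOpen.isoSpec_inv_ι, IsAffineOpen.isoSpec_inv_ι, Scheme.Hom.app_eq_appLE,
        IsAffineOpen.SpecMap_appLE_fromSpec]
    exact h2.paste_horiz h1
  rw [← Scheme.Hom.finrank_of_isPullback _ _ _ _ hsq p,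
    show Spec.map (q.app U) = Spec.map (CommRingCat.ofHom (algebraMap Γ(S, U) Γ(D, q ⁻¹ᵁ U))) from rfl]
  exact Scheme.Hom.finrank_SpecMap_algebraMap _ _ _

theorem mul_le_fst (I J : X.IdealSheafData) : I * J ≤ I := fun U => by
  rw [Scheme.IdealSheafData.ideal_mul, Pi.mul_apply]; exact Ideal.mul_le_inf.trans inf_le_left

theorem mul_le_snd (I J : X.IdealSheafData) : I * J ≤ J := fun U => by
  rw [Scheme.IdealSheafData.ideal_mul, Pi.mul_apply]; exact Ideal.mul_le_inf.trans inf_le_right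

variable {f : X ⟶ S} [SmoothOfRelativeDimension 1 f]

/-- A closed subscheme contained in a closed subscheme. -/
theorem exists_incl {I J : X.IdealSheafData} (h : J ≤ I) :
    ∃ j : I.subscheme ⟶ J.subscheme, IsClosedImmersion j ∧ j ≫ J.subschemeι = I.subschemeι ∧
      j.ker = I.comap J.subschemeι := by
  have hle : J.subschemeι.ker ≤ I.subschemeι.ker := by
    rwa [Scheme.IdealSheafData.ker_subschemeι, Scheme.IdealSheafData.ker_subschemeι]
  let j := IsClosedImmersion.lift J.subschemeι I.subschemeι hle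
  have hj : j ≫ J.subschemeι = I.subschemeι := IsClosedImmersion.lift_fac _ _ _
  haveI : IsClosedImmersion (j ≫ J.subschemeι) := by rw [hj]; infer_instance
  haveI : IsClosedImmersion j := IsClosedImmersion.of_comp j J.subschemeι
  refine ⟨j, ‹_›, hj, ?_⟩
  have hsq : IsPullback j (𝟙 I.subscheme) J.subschemeι I.subschemeι := by
    refine ⟨⟨by simp [hj]⟩, ⟨PullbackCone.IsLimit.mk _ (fun s => s.snd) (fun s => ?_) (fun s => ?_) ?_⟩⟩
    · rw [← cancel_mono J.subschemeι, Category.assoc, hj, s.condition]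
    · exact Category.comp_id _
    · intro s l _ h2
      simpa using h2
  conv_rhs => rw [← Scheme.IdealSheafData.ker_subschemeι I, HilbD.comap_ker_of_isPullback hsq]

omit [SmoothOfRelativeDimension 1 f] in
theorem isFinite_mul {I₁ I₂ : X.IdealSheafData} [IsFinite (I₁.subschemeι ≫ f)] [IsFinite (I₂.subschemeι ≫ f)]
    [LocallyQuasiFinite ((I₁ * I₂).subschemeι ≫ f)] [LocallyOfFiniteType ((I₁ * I₂).subschemeι ≫ f)] :
    IsFinite ((I₁ * I₂).subschemeι ≫ f) := by
  let q := (I₁ * I₂).subschemeι ≫ f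
  obtain ⟨j₁, hj₁, e₁, -⟩ := exists_incl (mul_le_fst I₁ I₂)
  obtain ⟨j₂, hj₂, e₂, -⟩ := exists_incl (mul_le_snd I₁ I₂)
  let c := coprod.desc j₁ j₂
  haveI : Surjective c := ⟨fun z => by
    have hz : (I₁ * I₂).subschemeι z ∈ ((I₁ * I₂).support : Set X) := by
      rw [← Scheme.IdealSheafData.range_subschemeι]; exact ⟨z, rfl⟩
    rw [Scheme.IdealSheafData.support_mul] at hz
    rcases hz with h | h
    · rw [← Scheme.IdealSheafData.range_subschemeι] at h
      obtain ⟨y, hy⟩ := h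
      refine ⟨(coprod.inl : I₁.subscheme ⟶ _) y, (I₁ * I₂).subschemeι.isClosedEmbedding.injective ?_⟩
      rw [← hy, ← Scheme.Hom.comp_apply, ← Scheme.Hom.comp_apply, coprod.inl_desc_assoc, e₁]
    · rw [← Scheme.IdealSheafData.range_subschemeι] at h
      obtain ⟨y, hy⟩ := h
      refine ⟨(coprod.inr : I₂.subscheme ⟶ _) y, (I₁ * I₂).subschemeι.isClosedEmbedding.injective ?_⟩
      rw [← hy, ← Scheme.Hom.comp_apply, ← Scheme.Hom.comp_apply, coprod.inr_desc_assoc, e₂]⟩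
  haveI : IsFinite (j₁ ≫ q) := by rw [← Category.assoc, e₁]; infer_instance
  haveI : IsFinite (j₂ ≫ q) := by rw [← Category.assoc, e₂]; infer_instance
  have hcq : c ≫ q = coprod.desc (j₁ ≫ q) (j₂ ≫ q) := coprod.desc_comp _ _ _
  haveI : IsFinite (c ≫ q) := by rw [hcq]; infer_instance
  haveI : QuasiCompact q := by
    haveI : QuasiCompact (c ≫ q) := inferInstance
    refine ⟨fun U hU hcpt => ?_⟩
    have := (QuasiCompact.isCompact_preimage (f := c ≫ q) U hU hcpt).image c.continuous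
    have e : ⇑(c ≫ q) ⁻¹' U = ⇑c ⁻¹' (⇑q ⁻¹' U) := rfl
    rwa [e, Set.image_preimage_eq _ c.surjective] at this
  haveI : UniversallyClosed q := UniversallyClosed.of_comp_surjective c q
  haveI : IsSeparated q := by
    refine ⟨IsClosedImmersion.of_isPreimmersion _ ?_⟩
    have hdiag : ∀ {D : Scheme.{u}} (j : D ⟶ (I₁ * I₂).subscheme) [IsClosedImmersion j] [IsSeparated (j ≫ q)],
        IsClosed (Set.range (j ≫ pullback.diagonal q)) := by
      intro D j _ _
      have e : j ≫ pullback.diagonal q = pullback.diagonal (j ≫ q) ≫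
          pullback.map (j ≫ q) (j ≫ q) q q j j (𝟙 S) (by simp) (by simp) := by
        apply pullback.hom_ext
        · rw [Category.assoc, Category.assoc, pullback.lift_fst, pullback.diagonal_fst_assoc, pullback.diagonal_fst, Category.comp_id]
        · rw [Category.assoc, Category.assoc, pullback.lift_snd, pullback.diagonal_snd_assoc, pullback.diagonal_snd, Category.comp_id]
      rw [e]
      haveI : IsClosedImmersion (pullback.map (j ≫ q) (j ≫ q) q q j j (𝟙 S) (by simp) (by simp)) :=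
        MorphismProperty.pullbackMap (P := @IsClosedImmersion) ‹IsClosedImmersion j› ‹IsClosedImmersion j› rfl rfl
      exact (Scheme.Hom.isClosedEmbedding _).isClosed_range
    have hu : Set.range (pullback.diagonal q) =
        Set.range (j₁ ≫ pullback.diagonal q) ∪ Set.range (j₂ ≫ pullback.diagonal q) := by
      refine Set.Subset.antisymm ?_ (by rintro _ (⟨y, rfl⟩ | ⟨y, rfl⟩) <;> exact ⟨_, rfl⟩)
      rintro _ ⟨z, rfl⟩
      obtain ⟨y, rfl⟩ := c.surjective z
      have key : Set.range c ⊆ Set.range j₁ ∪ Set.range j₂ := by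
        intro w hw
        obtain ⟨y, rfl⟩ := hw
        obtain ⟨i, y, rfl⟩ := (coprodOpenCover.{u, 0} _ _).exists_eq y
        cases i with
        | inl => exact Or.inl ⟨y, by show j₁ y = ((coprod.inl : I₁.subscheme ⟶ _) ≫ c) y; rw [coprod.inl_desc]⟩
        | inr => exact Or.inr ⟨y, by show j₂ y = ((coprod.inr : I₂.subscheme ⟶ _) ≫ c) y; rw [coprod.inr_desc]⟩
      rcases key ⟨y, rfl⟩ with ⟨w, hw⟩ | ⟨w, hw⟩
      · exact Or.inl ⟨w, by rw [Scheme.Hom.comp_apply, hw]⟩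
      · exact Or.inr ⟨w, by rw [Scheme.Hom.comp_apply, hw]⟩
    rw [hu]
    exact (hdiag j₁).union (hdiag j₂)
  haveI : IsProper q := {}
  exact IsFinite.of_isProper_of_locallyQuasiFinite q

theorem isFinLocFree_mul {I₁ I₂ : X.IdealSheafData}
    (h₁ : Mor2.IsFinLocFree (I₁.subschemeι ≫ f)) (h₂ : Mor2.IsFinLocFree (I₂.subschemeι ≫ f)) :
    Mor2.IsFinLocFree ((I₁ * I₂).subschemeι ≫ f) ∧ ∀ y, ((I₁ * I₂).subschemeι ≫ f).finrank y =
      (I₁.subschemeι ≫ f).finrank y + (I₂.subschemeι ≫ f).finrank y := by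
  obtain ⟨hf₁, hl₁, hp₁⟩ := h₁
  obtain ⟨hf₂, hl₂, hp₂⟩ := h₂
  have hC₁ : BlowUp.IsEffCartierIdeal I₁ := isEffCartierIdeal f I₁
  have hC₂ : BlowUp.IsEffCartierIdeal I₂ := isEffCartierIdeal f I₂
  haveI hflat := IdealSh.RelFlat.flat_mul f hC₁ hC₂
  obtain ⟨hqf, hlfp⟩ := locallyQuasiFinite_and_lfp f _ (IdealSh.EffCartier.mul hC₁ hC₂)
  haveI hfin : IsFinite ((I₁ * I₂).subschemeι ≫ f) := isFinite_mul
  refine ⟨⟨hfin, hflat, hlfp⟩, fun y => ?_⟩
  let ι := (I₁ * I₂).subschemeι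
  let q := ι ≫ f
  obtain ⟨U, hyU, -⟩ := exists_affine_le y (⊤ : S.Opens) trivial
  obtain ⟨p, rfl⟩ : ∃ p, U.2.fromSpec p = y := ⟨U.2.primeIdealOf ⟨y, hyU⟩, U.2.fromSpec_primeIdealOf _⟩
  let W : (I₁ * I₂).subscheme.affineOpens := ⟨q ⁻¹ᵁ U.1, U.2.preimage q⟩
  obtain ⟨j₁, hj₁, e₁, k₁⟩ := exists_incl (mul_le_fst I₁ I₂)
  obtain ⟨j₂, hj₂, e₂, k₂⟩ := exists_incl (mul_le_snd I₁ I₂)
  letI : Algebra Γ(S, U.1) Γ((I₁ * I₂).subscheme, W.1) := (q.app U.1).hom.toAlgebra
  haveI hRfin : Module.Finite Γ(S, U.1) Γ((I₁ * I₂).subscheme, W.1) := q.finite_app U.1 U.2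
  have hproj : ∀ {D : Scheme.{u}} (r : D ⟶ S) [IsFinite r] [Flat r] [LocallyOfFinitePresentation r],
      letI := (r.app U.1).hom.toAlgebra
      Module.Projective Γ(S, U.1) Γ(D, r ⁻¹ᵁ U.1) ∧ Module.Flat Γ(S, U.1) Γ(D, r ⁻¹ᵁ U.1) := by
    intro D r _ _ _
    letI := (r.app U.1).hom.toAlgebra
    haveI : Module.Finite Γ(S, U.1) Γ(D, r ⁻¹ᵁ U.1) := r.finite_app U.1 U.2
    have hfl := r.flat_appLE U.2 (U.2.preimage r) (e := le_rfl)
    rw [← Scheme.Hom.app_eq_appLE] at hfl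
    haveI : Module.Flat Γ(S, U.1) Γ(D, r ⁻¹ᵁ U.1) := hfl
    have hfp := HasRingHomProperty.appLE (P := @LocallyOfFinitePresentation) r inferInstance U
      ⟨_, U.2.preimage r⟩ le_rfl
    rw [← Scheme.Hom.app_eq_appLE] at hfp
    haveI : Algebra.FinitePresentation Γ(S, U.1) Γ(D, r ⁻¹ᵁ U.1) := hfp
    haveI : Module.FinitePresentation Γ(S, U.1) Γ(D, r ⁻¹ᵁ U.1) := .of_finite_of_finitePresentation _ _
    exact ⟨Module.Flat.projective_of_finitePresentation, inferInstance⟩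
  haveI hRproj : Module.Projective Γ(S, U.1) Γ((I₁ * I₂).subscheme, W.1) := (hproj q).1
  have hquot : ∀ (I : X.IdealSheafData) (d : ℕ) (j : I.subscheme ⟶ (I₁ * I₂).subscheme) [IsClosedImmersion j],
      j ≫ ι = I.subschemeι → IsFinite (I.subschemeι ≫ f) → Flat (I.subschemeι ≫ f) →
      LocallyOfFinitePresentation (I.subschemeι ≫ f) → (I.subschemeι ≫ f).finrank (U.2.fromSpec p) = d →
      Module.Projective Γ(S, U.1) (Γ((I₁ * I₂).subscheme, W.1) ⧸ j.ker.ideal W) ∧
        Module.Flat Γ(S, U.1) (Γ((I₁ * I₂).subscheme, W.1) ⧸ j.ker.ideal W) ∧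
        Module.rankAtStalk (R := Γ(S, U.1)) (Γ((I₁ * I₂).subscheme, W.1) ⧸ j.ker.ideal W) p = d := by
    intro I d j _ hj h1 h2 h3 hd
    have e : j ≫ q = I.subschemeι ≫ f := by rw [← Category.assoc, hj]
    rw [← e] at h1 h2 h3
    haveI := h1; haveI := h2; haveI := h3
    letI : Algebra Γ(S, U.1) Γ(I.subscheme, (j ≫ q) ⁻¹ᵁ U.1) := ((j ≫ q).app U.1).hom.toAlgebra
    let ψ : Γ((I₁ * I₂).subscheme, W.1) →ₐ[Γ(S, U.1)] Γ(I.subscheme, (j ≫ q) ⁻¹ᵁ U.1) :=
      { (j.app W.1).hom with commutes' := fun a => rfl }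
    have hψ : Function.Surjective ψ := j.app_surjective _ W.2
    have hker : RingHom.ker ψ = j.ker.ideal W := by
      rw [Scheme.Hom.ker_apply]; rfl
    let E := (Ideal.quotientEquivAlgOfEq Γ(S, U.1) hker.symm).trans
      (Ideal.quotientKerAlgEquivOfSurjective hψ)
    obtain ⟨hp', hfl'⟩ := hproj (j ≫ q)
    haveI := hp'; haveI := hfl'
    haveI : Module.Finite Γ(S, U.1) Γ(I.subscheme, (j ≫ q) ⁻¹ᵁ U.1) := (j ≫ q).finite_app U.1 U.2
    refine ⟨Module.Projective.of_equiv E.symm.toLinearEquiv, Module.Flat.of_linearEquiv E.toLinearEquiv, ?_⟩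
    rw [Module.rankAtStalk_eq_of_equiv E.toLinearEquiv, ← finrank_fromSpec_eq (j ≫ q) U.2 p]
    have : (j ≫ q).finrank (U.2.fromSpec p) = (I.subschemeι ≫ f).finrank (U.2.fromSpec p) :=
      congrArg (fun r : I.subscheme ⟶ S => r.finrank (U.2.fromSpec p)) e
    rw [this, hd]
  obtain ⟨hP₁, -, hr₁⟩ := hquot I₁ _ j₁ e₁ hf₁ hl₁ hp₁ rfl
  obtain ⟨-, hP₂, hr₂⟩ := hquot I₂ _ j₂ e₂ hf₂ hl₂ hp₂ rfl
  rw [finrank_fromSpec_eq q U.2 p]
  rw [rankAtStalk_add (A := Γ(S, U.1)) (j₁.ker.ideal W) (j₂.ker.ideal W) ?_ p, hr₁, hr₂]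
  intro n hn
  let D := (I₁ * I₂).subscheme
  let z : D := W.2.fromSpec ⟨n, hn⟩
  have hzW : z ∈ W.1 := by
    have : z ∈ Set.range W.2.fromSpec := ⟨_, rfl⟩
    rwa [W.2.range_fromSpec] at this
  obtain ⟨V, hxV, -, a, b, ha, -, ea, eb⟩ := IdealSh.EffCartier.exists_equation₂ hC₁ hC₂ (ι z) ⊤ trivial
  let W' : D.affineOpens := ⟨ι ⁻¹ᵁ V.1, V.2.preimage ι⟩
  obtain ⟨W'', hzW'', hle⟩ := exists_affine_le z (W.1 ⊓ W'.1) ⟨hzW, hxV⟩
  let L := D.presheaf.stalk z
  letI : Algebra Γ(D, W.1) L := (D.presheaf.germ W.1 z hzW).hom.toAlgebra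
  haveI : IsLocalization.AtPrime L n := W.2.isLocalization_stalk' ⟨n, hn⟩ hzW
  letI : Algebra Γ(D, W'.1) L := (D.presheaf.germ W'.1 z hxV).hom.toAlgebra
  haveI : IsLocalization.AtPrime L (W'.2.primeIdealOf ⟨z, hxV⟩).asIdeal := W'.2.isLocalization_stalk ⟨z, hxV⟩
  have hgerm : ∀ (K : D.IdealSheafData), (K.ideal W).map (algebraMap Γ(D, W.1) L) =
      (K.ideal W').map (algebraMap Γ(D, W'.1) L) := fun K => by
    have h1 := K.map_ideal (U := W'') (V := W) (hle.trans inf_le_left)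
    have h2 := K.map_ideal (U := W'') (V := W') (hle.trans inf_le_right)
    have g1 : algebraMap Γ(D, W.1) L = (D.presheaf.germ W''.1 z hzW'').hom.comp
        (D.presheaf.map (homOfLE (hle.trans inf_le_left)).op).hom := by
      rw [← CommRingCat.hom_comp, TopCat.Presheaf.germ_res]; rfl
    have g2 : algebraMap Γ(D, W'.1) L = (D.presheaf.germ W''.1 z hzW'').hom.comp
        (D.presheaf.map (homOfLE (hle.trans inf_le_right)).op).hom := by
      rw [← CommRingCat.hom_comp, TopCat.Presheaf.germ_res]; rfl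
    rw [g1, g2, ← Ideal.map_map, ← Ideal.map_map]
    exact congrArg _ (h1.trans h2.symm)
  let a' := ι.app V.1 a
  let b' := ι.app V.1 b
  have hideal : ∀ (I : X.IdealSheafData) (c : Γ(X, V.1)), I.ideal V = Ideal.span {c} →
      ((I.comap ι).ideal W).map (algebraMap Γ(D, W.1) L) = Ideal.span {algebraMap Γ(D, W'.1) L (ι.app V.1 c)} := by
    intro I c hc
    rw [hgerm, ideal_comap_span_singleton I ι V W' le_rfl hc, Ideal.map_span, Set.image_singleton,
      Scheme.Hom.app_eq_appLE]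
  have hann : ∀ x : L, algebraMap Γ(D, W'.1) L a' * x = 0 ↔ x ∈ Ideal.span {algebraMap Γ(D, W'.1) L b'} := by
    have hsurj : Function.Surjective (ι.app V.1) := ι.app_surjective V.1 V.2
    have hker : ∀ c, ι.app V.1 c = 0 ↔ c ∈ Ideal.span {a * b} := fun c => by
      have : RingHom.ker (ι.app V.1).hom = Ideal.span {a * b} := by
        rw [← Scheme.Hom.ker_apply ι V, Scheme.IdealSheafData.ker_subschemeι,
          Scheme.IdealSheafData.ideal_mul, Pi.mul_apply, ea, eb, Ideal.span_singleton_mul_span_singleton]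
      rw [← this]; rfl
    have hab : a' * b' = 0 := by
      rw [← map_mul]; exact (hker _).mpr (Ideal.mem_span_singleton_self _)
    intro x
    constructor
    · intro hx
      obtain ⟨x, s, rfl⟩ := IsLocalization.exists_mk'_eq (W'.2.primeIdealOf ⟨z, hxV⟩).asIdeal.primeCompl x
      rw [IsLocalization.mul_mk'_eq_mk'_of_mul, IsLocalization.mk'_eq_zero_iff] at hx
      obtain ⟨e, he⟩ := hx
      obtain ⟨x₀, hx₀⟩ := hsurj x
      obtain ⟨e₀, he₀⟩ := hsurj e
      obtain ⟨c, hc⟩ := Ideal.mem_span_singleton'.mp ((hker (e₀ * (a * x₀))).mp (by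
        rw [map_mul, map_mul, he₀, hx₀]; exact he))
      have h2 : e₀ * x₀ = c * b := by
        have h3 : a * (e₀ * x₀ - c * b) = 0 := by linear_combination -hc
        exact sub_eq_zero.mp ((mem_nonZeroDivisors_iff_left.mp ha) _ h3)
      have h4 : (e : Γ(D, W'.1)) * x = ι.app V.1 c * b' := by
        rw [← he₀, ← hx₀, ← map_mul, h2, map_mul]
      rw [IsLocalization.mk'_mem_iff]
      have h5 := congrArg (algebraMap Γ(D, W'.1) L) h4
      rw [map_mul, map_mul] at h5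
      refine (Ideal.unit_mul_mem_iff_mem _ (IsLocalization.map_units L e)).mp ?_
      rw [h5]
      exact Ideal.mul_mem_left _ _ (Ideal.mem_span_singleton_self _)
    · intro hx
      obtain ⟨c, rfl⟩ := Ideal.mem_span_singleton'.mp hx
      rw [mul_left_comm, ← map_mul, hab, map_zero, mul_zero]
  -- transfer to the abstract localization
  let ε := IsLocalization.algEquiv n.primeCompl (Localization.AtPrime n) L
  have hεmap : ∀ K : Ideal Γ(D, W.1), (K.map (algebraMap Γ(D, W.1) (Localization.AtPrime n))).map ε.toRingEquiv.toRingHom =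
      K.map (algebraMap Γ(D, W.1) L) := fun K => by
    rw [Ideal.map_map]
    congr 1
    exact RingHom.ext fun r => ε.commutes r
  have hchoose : ∀ (K : Ideal Γ(D, W.1)) (c : L), K.map (algebraMap Γ(D, W.1) L) = Ideal.span {c} →
      ∃ k ∈ K, ∃ u : L, IsUnit u ∧ algebraMap Γ(D, W.1) L k = u * c := by
    intro K c hc
    obtain ⟨⟨⟨k, hk⟩, s⟩, hks⟩ := (IsLocalization.mem_map_algebraMap_iff n.primeCompl L).mp
      (hc ▸ Ideal.mem_span_singleton_self c)
    exact ⟨k, hk, _, IsLocalization.map_units L s, by rw [← hks, mul_comm]⟩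
  obtain ⟨A₁, hA₁, u₁, hu₁, hAu⟩ := hchoose (j₁.ker.ideal W) _ (by rw [k₁]; exact hideal I₁ a ea)
  obtain ⟨B₁, hB₁, u₂, hu₂, hBu⟩ := hchoose (j₂.ker.ideal W) _ (by rw [k₂]; exact hideal I₂ b eb)
  have hm₁ : (j₁.ker.ideal W).map (algebraMap Γ(D, W.1) L) = Ideal.span {algebraMap Γ(D, W.1) L A₁} := by
    rw [hAu, Ideal.span_singleton_mul_left_unit hu₁, k₁]; exact hideal I₁ a ea
  have hm₂ : (j₂.ker.ideal W).map (algebraMap Γ(D, W.1) L) = Ideal.span {algebraMap Γ(D, W.1) L B₁} := by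
    rw [hBu, Ideal.span_singleton_mul_left_unit hu₂, k₂]; exact hideal I₂ b eb
  have hback : ∀ (K : Ideal Γ(D, W.1)) (c : Γ(D, W.1)), K.map (algebraMap Γ(D, W.1) L) =
      Ideal.span {algebraMap Γ(D, W.1) L c} →
      K.map (algebraMap Γ(D, W.1) (Localization.AtPrime n)) = Ideal.span {algebraMap Γ(D, W.1) _ c} := by
    intro K c hc
    have hinj : ∀ K' K'' : Ideal (Localization.AtPrime n), K'.map ε.toRingEquiv.toRingHom =
        K''.map ε.toRingEquiv.toRingHom → K' = K'' := fun K' K'' h => by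
      rw [← Ideal.comap_map_of_bijective ε.toRingEquiv.toRingHom ε.bijective (I := K'), h,
        Ideal.comap_map_of_bijective ε.toRingEquiv.toRingHom ε.bijective]
    apply hinj
    refine (hεmap K).trans (hc.trans ?_)
    rw [Ideal.map_span, Set.image_singleton]
    exact congrArg (fun r => Ideal.span {r}) (ε.commutes c).symm
  refine ⟨A₁, B₁, hA₁, hB₁, hback _ _ hm₁, hback _ _ hm₂, fun x => ?_⟩
  rw [hback _ _ hm₂]
  constructor
  · intro hx
    have h1 := congrArg ε hx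
    rw [map_mul, ε.commutes, map_zero, hAu, mul_assoc] at h1
    have h2 := (hann (ε x)).mp (hu₁.mul_right_eq_zero.mp h1)
    obtain ⟨r, hr⟩ := Ideal.mem_span_singleton'.mp h2
    obtain ⟨v, hv⟩ := hu₂.exists_left_inv
    refine Ideal.mem_span_singleton'.mpr ⟨ε.symm (r * v), ε.injective ?_⟩
    rw [map_mul, ε.apply_symm_apply, ε.commutes, hBu, ← hr]
    linear_combination (r * algebraMap Γ(D, W'.1) L b') * hv
  · intro hx
    obtain ⟨r, rfl⟩ := Ideal.mem_span_singleton'.mp hx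
    apply ε.injective
    rw [map_mul, map_mul, ε.commutes, ε.commutes, map_zero, hAu, hBu]
    have := (hann (algebraMap Γ(D, W'.1) L b')).mpr (Ideal.mem_span_singleton_self _)
    linear_combination (u₁ * u₂ * ε r) * this

theorem isFinLocFreeOfDeg_mul {I₁ I₂ : X.IdealSheafData} {d₁ d₂ : ℕ}
    (h₁ : Mor2.IsFinLocFreeOfDeg d₁ (I₁.subschemeι ≫ f)) (h₂ : Mor2.IsFinLocFreeOfDeg d₂ (I₂.subschemeι ≫ f)) :
    Mor2.IsFinLocFreeOfDeg (d₁ + d₂) ((I₁ * I₂).subschemeι ≫ f) :=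
  ⟨(isFinLocFree_mul h₁.1 h₂.1).1, fun y => by rw [(isFinLocFree_mul h₁.1 h₂.1).2, h₁.2, h₂.2]⟩

end Groth.Agent.RelDiv
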