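import Groth.Agent.RelDiv.HilbSym
import Groth.Agent.HilbD.AF
import Groth.Agent.SGA1Quot.Affine
import Groth.Agent.SGA1Quot.Finiteness
import Groth.Agent.S1169

/-!
# Applications to symmetric powers of curves
-/

set_option autoImplicit false

noncomputable section

universe u

open CategoryTheory CategoryTheory.Limits AlgebraicGeometry SymProd
open Groth.Agent.IdealSh.Comap

namespace Groth.Agent.RelDiv

variable {X S : Scheme.{u}} (f : X ⟶ S) [SmoothOfRelativeDimension 1 f] [IsSeparated f]

omit [SmoothOfRelativeDimension 1 f] in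
theorem representable_of_isAF (hAF : SymProd.IsAF f) (d : ℕ) : _root_.HilbD.Representable f d := by
  classical
  refine HilbD.representable_of_af f d fun s x hx => ?_
  obtain ⟨U, hU, hmem⟩ := hAF s (Finset.univ.image x) fun y hy => by
    obtain ⟨i, -, rfl⟩ := Finset.mem_image.mp hy
    exact hx i
  exact ⟨U, hU, fun i => hmem _ (Finset.mem_image_of_mem x (Finset.mem_univ i))⟩

theorem isProper_of_universal [IsProper f] (hrep : ∀ e : ℕ, _root_.HilbD.Representable f e) {n : ℕ} {H : Over S}
    {Z : _root_.HilbD.Obj f n H} (hZ : _root_.HilbD.IsUniversal f n H Z) : IsProper H.hom := by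
  obtain ⟨c, hc, -⟩ := hZ (pw f n) (powObj f n)
  obtain ⟨⟨e1, e2, e3⟩, e4⟩ := isFinLocFreeOfDeg_classify f hrep n H Z hZ c hc
  haveI := e1; haveI := e2; haveI := e3
  haveI : Surjective c.left := (Scheme.Hom.one_le_finrank_iff_surjective c.left).mp fun y => by
    rw [e4]; exact Nat.factorial_pos n
  haveI hP : ∀ m, IsProper (pw f m).hom := by
    intro m
    induction m with
    | zero =>
      haveI : IsIso (pw f 0).hom := by
        show IsIso (WidePullback.base fun _ : Fin 0 => f)
        refine ⟨WidePullback.lift (𝟙 S) (fun j => j.elim0) (fun j => j.elim0), ?_, WidePullback.lift_base _ _ _ _⟩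
        refine WidePullback.hom_ext _ _ _ (fun j => j.elim0) ?_
        rw [Category.assoc, WidePullback.lift_base, Category.comp_id, Category.id_comp]
      infer_instance
    | succ m ih =>
      haveI : IsProper (initMap f m).left :=
        MorphismProperty.of_isPullback (P := @IsProper) (isPullback_initMap f m).flip inferInstance
      rw [← Over.w (initMap f m)]
      infer_instance
  haveI : IsProper (c.left ≫ H.hom) := by rw [Over.w c]; exact hP n
  haveI : IsSeparated H.hom :=
    (SGA1Quot.affine_separated_finite_iff (isQuot_classify f hrep hZ c hc) _ H.hom rfl).2.1.mp inferInstance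
  haveI : Smooth H.hom := Groth.Agent.S1169.result f hrep n H Z hZ
  haveI : UniversallyClosed H.hom := UniversallyClosed.of_comp_surjective c.left H.hom
  haveI : LocallyOfFiniteType H.hom := inferInstance
  exact {}

variable {n : ℕ} {Y : Scheme.{u}} {q : fibPow f n ⟶ Y} {g : Y ⟶ S}

/-- The symmetric power represents the Hilbert functor of points. -/
theorem exists_universal (hAF : SymProd.IsAF f) (hq : SymProd.IsSymProd f n q g) :
    ∃ D : _root_.HilbD.Obj f n (Over.mk g), _root_.HilbD.IsUniversal f n (Over.mk g) D ∧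
      _root_.HilbD.pull f (Over.homMk q hq.over : pw f n ⟶ Over.mk g) D.1 = powDiv f n := by
  have hrep := representable_of_isAF f hAF
  obtain ⟨H, Z, hZ⟩ := hrep n
  obtain ⟨c, hc, -⟩ := hZ (pw f n) (powObj f n)
  obtain ⟨e, he⟩ := SGA1Quot.exists_iso_of_isQuot hq.isQuot (isQuot_classify f hrep hZ c hc)
  haveI : Epi q := SGA1Quot.epi_of_app_injective q (SGA1Quot.surjective hq.isQuot) hq.isQuot.injective
  let φ : Over.mk g ≅ H := Over.isoMk e (by
    show e.hom ≫ H.hom = g
    rw [← cancel_epi q, ← Category.assoc, he, hq.over]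
    exact Over.w c)
  have hqφ : (Over.homMk q hq.over : pw f n ⟶ Over.mk g) ≫ φ.hom = c := by ext1; exact he
  refine ⟨⟨_, HilbD.isFinLocFreeOfDeg_pull f n φ.hom Z.2⟩, fun T Z' => ?_, ?_⟩
  · obtain ⟨a, ha, hu⟩ := hZ T Z'
    refine ⟨a ≫ φ.inv, ?_, fun b hb => ?_⟩
    · show _root_.HilbD.pull f (a ≫ φ.inv) (_root_.HilbD.pull f φ.hom Z.1) = Z'.1
      rw [← HilbD.pull_comp, Category.assoc, Iso.inv_hom_id, Category.comp_id, ha]
    · have : b ≫ φ.hom = a := hu _ (by
        show _root_.HilbD.pull f (b ≫ φ.hom) Z.1 = Z'.1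
        rw [HilbD.pull_comp]; exact hb)
      rw [← this, Category.assoc, Iso.hom_inv_id, Category.comp_id]
  · show _root_.HilbD.pull f _ (_root_.HilbD.pull f φ.hom Z.1) = _
    rw [← HilbD.pull_comp, hqφ, hc]
    rfl

end Groth.Agent.RelDiv

end
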